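import Cfsg.Prelude.Def_CaseTheorems
import Cfsg.Prelude.Def_Transfer
import Cfsg.Agent.Lib.Transfer.ClassTwo
import Cfsg.Agent.Lib.Transfer.PGroupNormal
import Cfsg.Agent.Lib.Transfer.UniqueOrderP
import Cfsg.Agent.Lib.Transfer.AlperinTame
import Cfsg.Agent.Lib.OddLocal.Stab
import Cfsg.Agent.Lib.PGroup.GInvariantCritical

/-!
Rank two `p`-groups with a central element: small invariant subgroups of exponent `p`, the kernel
of an action on a section, and a Frattini criterion.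
-/

set_option autoImplicit false
set_option linter.unusedSectionVars false

namespace CfsgLib.RankTwoIso

open Subgroup
open scoped commutatorElement

variable {G : Type*} [Group G]

/-- The elements normalizing `D` that act trivially on `D` modulo the central subgroup `Z`. -/
def actKer (D Z : Subgroup G) (hZ : Z ≤ center G) : Subgroup G where
  carrier := {g | g ∈ normalizer (D : Set G) ∧ ∀ e ∈ D, g * e * g⁻¹ * e⁻¹ ∈ Z}
  one_mem' := ⟨one_mem _, fun e _ => by simp [one_mem]⟩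
  mul_mem' := by
    rintro a b ⟨haN, ha⟩ ⟨hbN, hb⟩
    refine ⟨mul_mem haN hbN, fun e he => ?_⟩
    have h1 := hb e he
    have h2 := ha e he
    have hc : a * (b * e * b⁻¹ * e⁻¹) = b * e * b⁻¹ * e⁻¹ * a := mem_center_iff.1 (hZ h1) a
    have : a * b * e * (a * b)⁻¹ * e⁻¹ = (b * e * b⁻¹ * e⁻¹) * (a * e * a⁻¹ * e⁻¹) := by
      calc a * b * e * (a * b)⁻¹ * e⁻¹ = a * (b * e * b⁻¹ * e⁻¹) * (e * a⁻¹ * e⁻¹) := by group
        _ = (b * e * b⁻¹ * e⁻¹) * (a * e * a⁻¹ * e⁻¹) := by rw [hc]; group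
    rw [this]
    exact mul_mem h1 h2
  inv_mem' := by
    rintro a ⟨haN, ha⟩
    refine ⟨inv_mem haN, fun e he => ?_⟩
    have he' : a⁻¹ * e * a ∈ D := by
      have := (mem_normalizer_iff.1 (inv_mem haN) e).1 he
      rwa [inv_inv] at this
    have h1 := inv_mem (ha _ he')
    simpa [mul_assoc] using h1

theorem mem_actKer {D Z : Subgroup G} {hZ : Z ≤ center G} {g : G} :
    g ∈ actKer D Z hZ ↔ g ∈ normalizer (D : Set G) ∧ ∀ e ∈ D, g * e * g⁻¹ * e⁻¹ ∈ Z := Iff.rfl

theorem actKer_normalized {D Z : Subgroup G} (hZ : Z ≤ center G) {n : G}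
    (hn : n ∈ normalizer (D : Set G)) : n ∈ normalizer (actKer D Z hZ : Set G) := by
  have key : ∀ m ∈ normalizer (D : Set G), ∀ g ∈ actKer D Z hZ, m * g * m⁻¹ ∈ actKer D Z hZ := by
    rintro m hm g ⟨hgN, hg⟩
    refine ⟨mul_mem (mul_mem hm hgN) (inv_mem hm), fun e he => ?_⟩
    have he' : m⁻¹ * e * m ∈ D := by
      have := (mem_normalizer_iff.1 (inv_mem hm) e).1 he
      rwa [inv_inv] at this
    have h1 := hg _ he'
    have hc : m * (g * (m⁻¹ * e * m) * g⁻¹ * (m⁻¹ * e * m)⁻¹) =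
        g * (m⁻¹ * e * m) * g⁻¹ * (m⁻¹ * e * m)⁻¹ * m := mem_center_iff.1 (hZ h1) m
    have : m * g * m⁻¹ * e * (m * g * m⁻¹)⁻¹ * e⁻¹ =
        m * (g * (m⁻¹ * e * m) * g⁻¹ * (m⁻¹ * e * m)⁻¹) * m⁻¹ := by group
    rw [this, hc, mul_inv_cancel_right]
    exact h1
  rw [mem_normalizer_iff]
  intro g
  refine ⟨key n hn g, fun h => ?_⟩
  have := key n⁻¹ (inv_mem hn) _ h
  simpa [mul_assoc] using this

variable [Finite G] {p : ℕ} [Fact p.Prime]

theorem card_zpowers_eq {x : G} (hx : orderOf x = p) : Nat.card (zpowers x) = p := by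
  rw [Nat.card_zpowers, hx]

theorem zpowers_le_center {x : G} (hxc : x ∈ center G) : zpowers x ≤ center G := zpowers_le.2 hxc

/-- A central `p`-element lies in every Sylow subgroup. -/
theorem mem_sylow_of_central {x : G} (hx : orderOf x = p) (hxc : x ∈ center G) (P : Sylow p G) :
    x ∈ (P : Subgroup G) := by
  haveI : (zpowers x).Normal := ⟨fun a ha g => by
    rw [mem_center_iff.1 (zpowers_le_center hxc ha) g, mul_inv_cancel_right]; exact ha⟩
  exact (IsPGroup.of_card (n := 1) (by rw [card_zpowers_eq hx, pow_one])).le_sylow_of_normal P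
    (mem_zpowers x)

/-- A `p'`-element acting trivially on `D` modulo a subgroup it centralizes fixes `D`. -/
theorem fixes_of_stabilizes {a : G} (ha : (orderOf a).Coprime p) {D N : Subgroup G} (hN : IsPGroup p N)
    (hfix : ∀ y ∈ N, a * y * a⁻¹ = y) (h : ∀ d ∈ D, a * d * a⁻¹ * d⁻¹ ∈ N) :
    ∀ d ∈ D, a * d * a⁻¹ = d := by
  intro d hd
  obtain ⟨k, hk⟩ := IsPGroup.iff_card.1 hN
  exact CfsgLib.OddLocal.conj_eq_of_stabilizes N a d (h d hd) (hfix _ (h d hd))
    (hk ▸ ha.pow_right k)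

theorem fixes_zpowers {x : G} (hxc : x ∈ center G) (a : G) :
    ∀ y ∈ zpowers x, a * y * a⁻¹ = y := fun y hy => by
  rw [mem_center_iff.1 (zpowers_le_center hxc hy) a, mul_inv_cancel_right]

/-- A `p'`-element of the kernel on `D / ⟨x⟩` centralizes `D`. -/
theorem fixes_of_mem_actKer {x : G} (hx : orderOf x = p) (hxc : x ∈ center G) {D : Subgroup G} {a : G}
    (ha : (orderOf a).Coprime p) (h : a ∈ actKer D (zpowers x) (zpowers_le_center hxc)) :
    ∀ d ∈ D, a * d * a⁻¹ = d :=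
  fixes_of_stabilizes ha (IsPGroup.of_card (n := 1) (by rw [card_zpowers_eq hx, pow_one]))
    (fixes_zpowers hxc a) h.2

/-- A `p`-group normalizing a subgroup of order at most `p ^ 2` through the central element `x`
acts trivially modulo `⟨x⟩`. -/
theorem le_actKer_of_card_le {x : G} (hx : orderOf x = p) (hxc : x ∈ center G) {D R : Subgroup G}
    (hD : Nat.card D ≤ p ^ 2) (hxD : x ∈ D) (hR : IsPGroup p R) (hDR : D ≤ R)
    (hRD : R ≤ normalizer (D : Set G)) : R ≤ actKer D (zpowers x) (zpowers_le_center hxc) := by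
  have hp := (Fact.out : p.Prime)
  intro r hr
  refine ⟨hRD hr, fun e he => ?_⟩
  haveI : (D.subgroupOf R).Normal := normal_subgroupOf_of_le_normalizer hRD
  have hxR : (⟨x, hDR hxD⟩ : R) ∈ D.subgroupOf R := hxD
  have hne : D.subgroupOf R ≠ ⊥ := by
    intro h
    rw [h, mem_bot, Subtype.ext_iff] at hxR
    have : orderOf x = 1 := by rw [show x = 1 from hxR, orderOf_one]
    exact hp.one_lt.ne (this.symm.trans hx)
  obtain ⟨M, hMn, hMD, hMc, hcomm, -⟩ := CfsgLib.Transfer.exists_chief_below hR (D.subgroupOf R) hne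
  rw [Nat.card_congr (subgroupOfEquivOfLe hDR).toEquiv] at hMc
  have hMle : Nat.card M ≤ p := Nat.le_of_mul_le_mul_left (by rw [← hMc, ← sq]; exact hD) hp.pos
  have h1 : (⟨r, hr⟩ : R) * ⟨e, hDR he⟩ * ⟨r, hr⟩⁻¹ * ⟨e, hDR he⟩⁻¹ ∈ M := hcomm _ he _
  by_cases hxM : (⟨x, hDR hxD⟩ : R) ∈ M
  · have hMeq : zpowers (⟨x, hDR hxD⟩ : R) = M := eq_of_le_of_card_ge (zpowers_le.2 hxM) (by
      rw [Nat.card_zpowers, ← Subgroup.orderOf_coe, hx]; exact hMle)
    rw [← hMeq] at h1
    obtain ⟨i, hi⟩ := mem_zpowers_iff.1 h1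
    refine mem_zpowers_iff.2 ⟨i, ?_⟩
    simpa using congrArg Subtype.val hi
  -- `M` is central and `D = M × ⟨x⟩`
  haveI := hMn
  have hMcen : ∀ m ∈ M, ∀ g : R, g * m = m * g := by
    intro m hm g
    rcases eq_or_ne m 1 with rfl | hm1
    · simp
    obtain ⟨k, hk⟩ := IsPGroup.iff_card.1 (hR.to_subgroup M)
    have hMne : M ≠ ⊥ := fun h => hm1 (by rwa [h, mem_bot] at hm)
    obtain ⟨M', -, hM'M, hM'c, hcomm', -⟩ := CfsgLib.Transfer.exists_chief_below hR M hMne
    have hM'1 : M' = ⊥ := eq_bot_of_card_eq _ (by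
      have h2 : p * Nat.card M' ≤ p * 1 := by rw [← hM'c, mul_one]; exact hMle
      exact le_antisymm (Nat.le_of_mul_le_mul_left h2 hp.pos) Nat.card_pos)
    have := hcomm' m hm g
    rw [hM'1, mem_bot, mul_inv_eq_one, mul_inv_eq_iff_eq_mul] at this
    exact this
  have hlt : M ⊔ zpowers (⟨x, hDR hxD⟩ : R) = D.subgroupOf R := by
    refine eq_of_le_of_card_ge (sup_le hMD (zpowers_le.2 hxR)) ?_
    rw [Nat.card_congr (subgroupOfEquivOfLe hDR).toEquiv, hMc]
    have hM0 : Nat.card M < Nat.card (M ⊔ zpowers (⟨x, hDR hxD⟩ : R) : Subgroup R) :=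
      lt_of_le_of_ne (card_le_of_le le_sup_left) fun h =>
        hxM ((eq_of_le_of_card_ge le_sup_left h.ge).ge (mem_sup_right (mem_zpowers _)))
    obtain ⟨a, ha⟩ := IsPGroup.iff_card.1 (hR.to_subgroup M)
    obtain ⟨b, hb⟩ := IsPGroup.iff_card.1 (hR.to_subgroup (M ⊔ zpowers (⟨x, hDR hxD⟩ : R)))
    rw [ha, hb] at hM0 ⊢
    rw [← pow_succ']
    exact Nat.pow_le_pow_right hp.pos ((Nat.pow_lt_pow_iff_right hp.one_lt).1 hM0)
  have hDc : D.subgroupOf R ≤ center R := by
    rw [← hlt]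
    refine sup_le (fun m hm => mem_center_iff.2 fun g => hMcen m hm g) (zpowers_le.2 ?_)
    exact mem_center_iff.2 fun g => Subtype.ext (mem_center_iff.1 hxc g)
  have h2 := congrArg Subtype.val (mem_center_iff.1 (hDc (show (⟨e, hDR he⟩ : R) ∈ D.subgroupOf R from he))
    (⟨r, hr⟩ : R))
  simp only [Subgroup.coe_mul] at h2
  rw [h2, mul_inv_cancel_right, mul_inv_cancel]
  exact one_mem _

/-- The small invariant subgroup: exponent `p`, commutators central in itself, detecting `p'`-actions. -/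
theorem exists_faithful (hp2 : p ≠ 2) {x : G} (hx : orderOf x = p) (hxc : x ∈ center G)
    {Q : Subgroup G} (hQ : IsPGroup p Q) (hxQ : x ∈ Q) :
    ∃ D : Subgroup G, D ≤ Q ∧ x ∈ D ∧ normalizer (Q : Set G) ≤ normalizer (D : Set G) ∧
      (∀ d ∈ D, d ^ p = 1) ∧ (∀ a ∈ D, ∀ b ∈ D, ∀ c ∈ D, ⁅a, b⁆ * c = c * ⁅a, b⁆) ∧
      ∀ g ∈ normalizer (Q : Set G), (orderOf g).Coprime p → (∀ d ∈ D, g * d * g⁻¹ = d) →
        ∀ q ∈ Q, g * q * g⁻¹ = q := by
  set Φ : ↥(normalizer (Q : Set G)) →* MulAut Q := Q.normalizerMonoidHom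
  have hΦ : ∀ (g : ↥(normalizer (Q : Set G))) (q : Q), ((Φ g) q : G) = g * q * (g : G)⁻¹ := fun g q => rfl
  have hinn : ∀ q : Q, MulAut.conj q ∈ Φ.range := by
    intro q
    refine ⟨⟨q, le_normalizer q.2⟩, ?_⟩
    ext a
    simp [hΦ]
  obtain ⟨D0, hD0i, -, hD0e, hD0c, hD0f, -⟩ :=
    CfsgLib.PGroup.exists_critical_invariant hQ Φ.range hinn
  set D := D0.map Q.subtype ⊔ zpowers x with hD
  have hcD : ∀ d ∈ D0.map Q.subtype, ∀ z ∈ zpowers x, d * z = z * d := fun d _ z hz =>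
    mem_center_iff.1 (zpowers_le_center hxc hz) d
  have hdec : ∀ d ∈ D, ∃ a ∈ D0, ∃ z ∈ zpowers x, d = (a : G) * z := by
    intro d hd
    haveI : (zpowers x).Normal := ⟨fun a ha g => by
      rw [fixes_zpowers hxc g a ha]; exact ha⟩
    rw [hD, ← SetLike.mem_coe, mul_normal] at hd
    obtain ⟨u, ⟨a, ha, rfl⟩, z, hz, rfl⟩ := hd
    exact ⟨a, ha, z, hz, rfl⟩
  refine ⟨D, sup_le (map_subtype_le D0) (zpowers_le.2 hxQ), mem_sup_right (mem_zpowers x), ?_, ?_, ?_, ?_⟩
  · intro g hg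
    have key : ∀ m ∈ normalizer (Q : Set G), ∀ d ∈ D, m * d * m⁻¹ ∈ D := by
      intro m hm d hd
      obtain ⟨a, ha, z, hz, rfl⟩ := hdec d hd
      have h1 : Φ ⟨m, hm⟩ a ∈ D0 := by
        rw [← hD0i _ (MonoidHom.mem_range.2 ⟨⟨m, hm⟩, rfl⟩)]
        exact ⟨a, ha, rfl⟩
      rw [show m * ((a : G) * z) * m⁻¹ = (m * a * m⁻¹) * (m * z * m⁻¹) by group,
        fixes_zpowers hxc m z hz]
      exact mul_mem (mem_sup_left ⟨_, h1, hΦ ⟨m, hm⟩ a⟩) (mem_sup_right hz)
    rw [mem_normalizer_iff]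
    refine fun d => ⟨key g hg d, fun h => ?_⟩
    have := key g⁻¹ (inv_mem hg) _ h
    simpa [mul_assoc] using this
  · intro d hd
    obtain ⟨a, ha, z, hz, rfl⟩ := hdec d hd
    rw [(show Commute (a : G) z from hcD _ ⟨a, ha, rfl⟩ z hz).mul_pow]
    have h1 : (a : G) ^ p = 1 := by
      rcases hD0e a ha with h | ⟨h, -⟩
      · rw [← Subgroup.coe_pow, h, Subgroup.coe_one]
      · exact absurd h hp2
    have h2 : z ^ p = 1 := by
      obtain ⟨i, rfl⟩ := hz
      have hxp : x ^ p = 1 := hx ▸ pow_orderOf_eq_one x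
      rw [← zpow_natCast, ← zpow_mul, mul_comm, zpow_mul, zpow_natCast, hxp, one_zpow]
    rw [h1, h2, mul_one]
  · intro d hd d' hd' c hc
    obtain ⟨a, ha, z, hz, rfl⟩ := hdec d hd
    obtain ⟨b, hb, z', hz', rfl⟩ := hdec d' hd'
    obtain ⟨e, he, w, hw, rfl⟩ := hdec c hc
    have hz1 : ∀ u : G, u * z = z * u := mem_center_iff.1 (zpowers_le_center hxc hz)
    have hz2 : ∀ u : G, u * z' = z' * u := mem_center_iff.1 (zpowers_le_center hxc hz')
    have hw1 : ∀ u : G, u * w = w * u := mem_center_iff.1 (zpowers_le_center hxc hw)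
    have hzz : z * z' = z' * z := (hz1 z').symm
    have hcom : ⁅(a : G) * z, (b : G) * z'⁆ = ⁅(a : G), (b : G)⁆ := by
      simp only [commutatorElement_def, mul_inv_rev]
      calc (a : G) * z * ((b : G) * z') * (z⁻¹ * (a : G)⁻¹) * (z'⁻¹ * (b : G)⁻¹)
          = (a : G) * (z * b) * (z' * z⁻¹ * (a : G)⁻¹ * z'⁻¹) * (b : G)⁻¹ := by group
        _ = (a : G) * (b * z) * (z⁻¹ * (a : G)⁻¹) * (b : G)⁻¹ := by
            rw [← hz1 (b : G)]
            congr 2
            rw [← hz2 z⁻¹, mul_assoc z⁻¹ z', ← hz2 (a : G)⁻¹]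
            group
        _ = (a : G) * b * (a : G)⁻¹ * (b : G)⁻¹ := by group
    rw [hcom]
    have h1 := hD0c (commutator_mem_commutator ha (mem_top b))
    have h2 := congrArg Subtype.val (mem_centralizer_iff.1 (mem_inf.1 h1).2 e he)
    simp only [commutatorElement_def, Subgroup.coe_mul, InvMemClass.coe_inv] at h2
    rw [← commutatorElement_def] at h2
    rw [← mul_assoc, ← h2, mul_assoc, mul_assoc, hw1]
  · intro g hg hgc hfix q hq
    have hα : Φ ⟨g, hg⟩ = 1 := by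
      refine hD0f _ ⟨_, rfl⟩ ?_ fun d hd => Subtype.ext ?_
      · exact hgc.coprime_dvd_left ((orderOf_map_dvd Φ _).trans (by rw [← Subgroup.orderOf_coe]))
      · rw [hΦ]; exact hfix d (mem_sup_left ⟨d, hd, rfl⟩)
    have h := congrArg (fun f : MulAut Q => ((f ⟨q, hq⟩ : Q) : G)) hα
    simpa [hΦ] using h

/-- A subgroup of exponent `p` and class two in rank two. -/
theorem small_shape (hrank : Cfsg.PRankLE p 2 G) {x : G} (hx : orderOf x = p) (hxc : x ∈ center G)
    {D : Subgroup G} (hxD : x ∈ D) (hexp : ∀ d ∈ D, d ^ p = 1)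
    (hcl : ∀ a ∈ D, ∀ b ∈ D, ∀ c ∈ D, ⁅a, b⁆ * c = c * ⁅a, b⁆) :
    Nat.card D ≤ p ^ 2 ∨
    (Nat.card D = p ^ 3 ∧ (∀ a ∈ D, ∀ b ∈ D, ⁅a, b⁆ ∈ zpowers x) ∧
      ∀ a ∈ D, a ∉ zpowers x → Nat.card (zpowers a ⊔ zpowers x : Subgroup G) = p ^ 2 ∧
        ∀ b ∈ D, a * b = b * a → b ∈ zpowers a ⊔ zpowers x) := by
  have hp := (Fact.out : p.Prime)
  have hDp : IsPGroup p D := fun d => ⟨1, Subtype.ext (by simpa using hexp d d.2)⟩
  have hpair : ∀ a ∈ D, a ∉ zpowers x → Nat.card (zpowers a ⊔ zpowers x : Subgroup G) = p ^ 2 ∧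
      ∀ b ∈ D, a * b = b * a → b ∈ zpowers a ⊔ zpowers x := by
    intro a ha hax
    have hle : zpowers a ⊔ zpowers x ≤ D := sup_le (zpowers_le.2 ha) (zpowers_le.2 hxD)
    have hcl' : ∀ b ∈ D, a * b = b * a → ∀ S : Subgroup G, S = closure ({a, x, b} : Set G) →
        Nat.card S ≤ p ^ 2 := by
      intro b hb hab S hS
      have hc : IsMulCommutative S := by
        rw [hS]
        refine isMulCommutative_closure ?_
        intro u hu v hv
        have hxa : ∀ u : G, u * x = x * u := mem_center_iff.1 hxc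
        rcases hu with rfl | rfl | rfl <;> rcases hv with rfl | rfl | rfl <;>
          first | rfl | exact hab | exact hab.symm | exact hxa _ | exact (hxa _).symm
      refine hrank S hc fun s hs => hexp s ?_
      rw [hS] at hs
      exact (closure_le D).2 (by rintro u (rfl | rfl | rfl) <;> assumption) hs
    have h2 : Nat.card (zpowers a ⊔ zpowers x : Subgroup G) = p ^ 2 := by
      have hlt : Nat.card (zpowers x) < Nat.card (zpowers a ⊔ zpowers x : Subgroup G) :=
        lt_of_le_of_ne (card_le_of_le le_sup_right) fun h =>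
          hax ((eq_of_le_of_card_ge le_sup_right h.ge).ge (mem_sup_left (mem_zpowers a)))
      obtain ⟨k, hk⟩ := IsPGroup.iff_card.1 (hDp.to_le hle)
      have hu : Nat.card (zpowers a ⊔ zpowers x : Subgroup G) ≤ p ^ 2 := by
        refine le_trans (card_le_of_le (sup_le ?_ ?_)) (hcl' a ha rfl _ rfl) <;>
          exact zpowers_le.2 (subset_closure (by simp))
      rw [card_zpowers_eq hx, hk] at hlt
      rw [hk] at hu ⊢
      have hk1 : 1 < k := by
        by_contra hh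
        exact absurd ((Nat.pow_le_pow_right hp.pos (Nat.not_lt.1 hh)).trans (pow_one p).le) hlt.not_ge
      have hk2 := (Nat.pow_le_pow_iff_right hp.one_lt).1 hu
      rw [show k = 2 by omega]
    refine ⟨h2, fun b hb hab => ?_⟩
    have hS := hcl' b hb hab _ rfl
    have hle2 : zpowers a ⊔ zpowers x ≤ closure ({a, x, b} : Set G) :=
      sup_le (zpowers_le.2 (subset_closure (by simp))) (zpowers_le.2 (subset_closure (by simp)))
    rw [eq_of_le_of_card_ge hle2 (hS.trans h2.ge)]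
    exact subset_closure (by simp)
  by_cases hab : IsMulCommutative D
  · exact Or.inl (hrank D hab hexp)
  obtain ⟨a, ha, b, hb, hne⟩ : ∃ a ∈ D, ∃ b ∈ D, a * b ≠ b * a := by
    by_contra! h
    exact hab ⟨⟨fun u v => Subtype.ext (h u u.2 v v.2)⟩⟩
  -- commutators lie in `⟨x⟩`
  have hcom : ∀ u ∈ D, ∀ v ∈ D, ⁅u, v⁆ ∈ zpowers x := by
    intro u hu v hv
    have hwD : ⁅u, v⁆ ∈ D := by
      rw [commutatorElement_def]
      exact mul_mem (mul_mem (mul_mem hu hv) (inv_mem hu)) (inv_mem hv)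
    by_contra hw
    obtain ⟨hcard, hall⟩ := hpair _ hwD hw
    have hA' : zpowers ⁅u, v⁆ ⊔ zpowers x ≤ centralizer (D : Set G) :=
      sup_le (zpowers_le.2 (mem_centralizer_iff.2 fun c hc => (hcl u hu v hv c hc).symm))
        ((zpowers_le_center hxc).trans (center_le_centralizer _))
    refine hne (mem_centralizer_iff.1 (hA' (hall a ha ?_)) b hb).symm
    exact hcl u hu v hv a ha
  refine Or.inr ⟨?_, hcom, hpair⟩
  have hax : a ∉ zpowers x := fun h => hne (mem_center_iff.1 (zpowers_le_center hxc h) b).symm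
  obtain ⟨hAc, hA⟩ := hpair a ha hax
  set A := zpowers a ⊔ zpowers x with hAdef
  have hAD : A ≤ D := sup_le (zpowers_le.2 ha) (zpowers_le.2 hxD)
  let f : D →* G :=
    { toFun := fun d => ⁅(d : G), a⁆
      map_one' := by simp
      map_mul' := fun d e => by
        have hz : ⁅(e : G), a⁆ * d = d * ⁅(e : G), a⁆ := hcl _ e.2 a ha _ d.2
        have h2 : ⁅(d : G), a⁆ * ⁅(e : G), a⁆ = ⁅(e : G), a⁆ * ⁅(d : G), a⁆ :=
          mem_center_iff.1 (zpowers_le_center hxc (hcom _ e.2 a ha)) _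
        rw [h2, Subgroup.coe_mul]
        simp only [commutatorElement_def] at hz ⊢
        calc (d : G) * e * a * ((d : G) * e)⁻¹ * a⁻¹
            = (d : G) * (e * a * (e : G)⁻¹ * a⁻¹) * (a * (d : G)⁻¹ * a⁻¹) := by group
          _ = _ := by rw [← hz]; group }
  have hker : f.ker = A.subgroupOf D := by
    ext d
    rw [MonoidHom.mem_ker, mem_subgroupOf]
    show ⁅(d : G), a⁆ = 1 ↔ _
    rw [commutatorElement_eq_one_iff_mul_comm]
    refine ⟨fun h => hA _ d.2 h.symm, fun h => ?_⟩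
    have hA' : A ≤ centralizer ({a} : Set G) := sup_le (zpowers_le.2 (mem_centralizer_singleton_iff.2 rfl))
      (zpowers_le.2 (mem_centralizer_singleton_iff.2 (mem_center_iff.1 hxc a).symm))
    exact mem_centralizer_singleton_iff.1 (hA' h)
  have hidx : Nat.card f.range ∣ p := by
    rw [← card_zpowers_eq hx]
    refine card_dvd_of_le ?_
    rintro _ ⟨d, rfl⟩
    exact hcom _ d.2 a ha
  have hlt : A < D := lt_of_le_of_ne hAD fun h => hne (by
    have hb' : b ∈ A := h ▸ hb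
    have hA' : A ≤ centralizer ({a} : Set G) := sup_le (zpowers_le.2 (mem_centralizer_singleton_iff.2 rfl))
      (zpowers_le.2 (mem_centralizer_singleton_iff.2 (mem_center_iff.1 hxc a).symm))
    exact (mem_centralizer_singleton_iff.1 (hA' hb')).symm)
  have hmul := f.ker.card_mul_index
  rw [index_ker, hker, Nat.card_congr (subgroupOfEquivOfLe hAD).toEquiv, hAc] at hmul
  rcases (Nat.dvd_prime hp).1 hidx with h | h
  · rw [h, mul_one] at hmul
    exact absurd (eq_of_le_of_card_ge hAD (hmul.symm.le.trans hAc.ge)) hlt.ne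
  · rw [← hmul, h, ← pow_succ]

end CfsgLib.RankTwoIso
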