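import Cfsg.Prelude.Def_Transfer
import Cfsg.Agent.Lib.Invol.EssentialFour
import Cfsg.Agent.Lib.Transfer.ClassTwo
import Mathlib.Algebra.Field.ZMod

/-!
The two families of rank two `p`-groups with a group of automorphisms fixing a central element of
order `p` and without nontrivial fixed points on the Frattini quotient.
-/

set_option autoImplicit false
set_option linter.unusedSectionVars false
set_option linter.style.haveILetI false

namespace CfsgLib.RankTwoIso

open Subgroup
open scoped commutatorElement Pointwise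

variable {P : Type*} [Group P] [Finite P]

theorem closure_triple_eq (x y z : P) (hyz : y * z = z * y)
    (hy : x⁻¹ * y * x ∈ closure ({y, z} : Set P)) (hz : x⁻¹ * z * x ∈ closure ({y, z} : Set P)) :
    (closure ({x, y, z} : Set P) : Set P) =
      (zpowers x : Set P) * ((zpowers y : Set P) * (zpowers z : Set P)) := by
  set A := closure ({y, z} : Set P) with hA
  have hAe : A = zpowers y ⊔ zpowers z := by
    rw [hA, zpowers_eq_closure, zpowers_eq_closure, ← Subgroup.closure_union, Set.singleton_union]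
  have hxA : x⁻¹ ∈ normalizer (A : Set P) := by
    have hle : A.map (MulAut.conj x⁻¹).toMonoidHom ≤ A := by
      rw [hA, MonoidHom.map_closure, closure_le]
      rintro _ ⟨u, (rfl | rfl), rfl⟩ <;> simpa
    rw [mem_normalizer_iff]
    have he := eq_of_le_of_card_ge hle (card_map_of_injective (MulEquiv.injective _)).ge
    intro u
    conv_rhs => rw [← he, mem_map_equiv, MulAut.conj_symm_apply]
    simp [mul_assoc]
  have hxN : zpowers x ≤ normalizer (A : Set P) := by
    rw [zpowers_le, ← inv_mem_iff]; exact hxA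
  have hyN : zpowers y ≤ normalizer (zpowers z : Set P) := by
    refine le_trans (zpowers_le.2 (mem_centralizer_singleton_iff.2 hyz)) ?_
    intro g hg
    rw [mem_normalizer_iff]
    have key : ∀ u ∈ zpowers z, g * u * g⁻¹ = u := by
      rintro _ ⟨i, rfl⟩
      rw [((show Commute g z from mem_centralizer_singleton_iff.1 hg).zpow_right i).eq, mul_inv_cancel_right]
    refine fun u => ⟨fun hu => by rw [key u hu]; exact hu, fun hu => ?_⟩
    have h1 := key _ hu
    have h2 : g * u * g⁻¹ = u := by
      have := congrArg (fun w => g⁻¹ * w * g) h1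
      simpa [mul_assoc] using this
    rwa [h2] at hu
  have he : closure ({x, y, z} : Set P) = zpowers x ⊔ A := by
    rw [hA, zpowers_eq_closure, ← Subgroup.closure_union, Set.singleton_union]
  rw [he, coe_mul_of_left_le_normalizer_right (zpowers x) A hxN, hAe,
    coe_mul_of_left_le_normalizer_right (zpowers y) (zpowers z) hyN]

theorem card_closure_triple_le (x y z : P) (hyz : y * z = z * y)
    (hy : x⁻¹ * y * x ∈ closure ({y, z} : Set P)) (hz : x⁻¹ * z * x ∈ closure ({y, z} : Set P)) :
    Nat.card (closure ({x, y, z} : Set P)) ≤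
      Nat.card (zpowers x) * (Nat.card (zpowers y) * Nat.card (zpowers z)) := by
  have h := closure_triple_eq x y z hyz hy hz
  calc Nat.card (closure ({x, y, z} : Set P)) = Nat.card ↥(closure ({x, y, z} : Set P) : Set P) := rfl
    _ = Nat.card ↥((zpowers x : Set P) * ((zpowers y : Set P) * (zpowers z : Set P))) := by rw [h]
    _ ≤ _ := (Set.natCard_mul_le).trans (Nat.mul_le_mul_left _ Set.natCard_mul_le)

variable {p : ℕ} [Fact p.Prime]

theorem card_zpowers_le {g : P} {m : ℕ} (hm : 0 < m) (h : g ^ m = 1) : Nat.card (zpowers g) ≤ m := by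
  rw [Nat.card_zpowers]; exact Nat.le_of_dvd hm (orderOf_dvd_of_pow_eq_one h)

theorem mem_zpowers_zpow {g : P} (hg : g ^ p = 1) {i : ℤ} (h : g ^ i ≠ 1) : g ∈ zpowers (g ^ i) := by
  have hp := (Fact.out : p.Prime)
  have hg1 : g ≠ 1 := fun e => h (by rw [e, one_zpow])
  have hgo : orderOf g = p := orderOf_eq_prime hg hg1
  have hio : orderOf (g ^ i) = p := orderOf_eq_prime
    (by rw [← zpow_natCast, ← zpow_mul, mul_comm, zpow_mul, zpow_natCast, hg, one_zpow]) h
  rw [eq_of_le_of_card_ge (zpowers_le.2 (zpow_mem (mem_zpowers g) i) : zpowers (g ^ i) ≤ zpowers g)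
    (by rw [Nat.card_zpowers, Nat.card_zpowers, hgo, hio])]
  exact mem_zpowers g

/-- A power commuting with `y` is trivial when `g` does not commute with `y`. -/
theorem zpow_eq_one_of_commute {g y : P} (hg : g ^ p = 1) (hne : g * y ≠ y * g) {i : ℤ}
    (h : Commute (g ^ i) y) : g ^ i = 1 := by
  by_contra h1
  obtain ⟨k, hk⟩ := mem_zpowers_iff.1 (mem_zpowers_zpow hg h1)
  exact hne (by rw [← hk]; exact (h.zpow_left k).eq)

/-- The common facts about `z` and `w = z ^ p ^ (n - 3)`. -/
theorem family_facts {n : ℕ} (hP : Nat.card P = p ^ n) (hn : 4 ≤ n) (x y z : P)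
    (hgen : closure ({x, y, z} : Set P) = ⊤) (hx : x ^ p = 1) (hy : y ^ p = 1) (hz : z ^ p ^ (n - 2) = 1)
    (hyz : y * z = z * y) (e : ℕ) (hxy : x⁻¹ * y * x = y * (z ^ p ^ (n - 3)) ^ e)
    (hxz : x⁻¹ * z * x ∈ closure ({y, z} : Set P)) (hwx : x⁻¹ * z ^ p ^ (n - 3) * x = z ^ p ^ (n - 3)) :
    orderOf z = p ^ (n - 2) ∧ z ∉ frattini P ∧ z ^ p ^ (n - 3) ∈ center P := by
  have hp := (Fact.out : p.Prime)
  set w := z ^ p ^ (n - 3) with hw
  have hcy : Commute y w := (show Commute y z from hyz).pow_right _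
  have hyA : x⁻¹ * y * x ∈ closure ({y, z} : Set P) := by
    rw [hxy]
    exact mul_mem (subset_closure (by simp)) (pow_mem (pow_mem (subset_closure (by simp)) _) _)
  have hwc : w ∈ center P := by
    have hle : closure ({x, y, z} : Set P) ≤ centralizer ({w} : Set P) := by
      rw [closure_le]
      rintro u (rfl | rfl | rfl) <;> refine mem_centralizer_singleton_iff.2 ?_
      · conv_lhs => rw [← hwx]
        group
      · exact hcy.eq
      · exact ((Commute.refl u).pow_right _).eq
    rw [hgen] at hle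
    exact mem_center_iff.2 fun g => mem_centralizer_singleton_iff.1 (hle (mem_top g))
  refine ⟨?_, ?_, hwc⟩
  · have hb := card_closure_triple_le x y z hyz hyA hxz
    rw [hgen, card_top, hP] at hb
    have h1 := hb.trans (Nat.mul_le_mul (card_zpowers_le hp.pos hx) (Nat.mul_le_mul_right _
      (card_zpowers_le hp.pos hy)))
    obtain ⟨m, rfl⟩ : ∃ m, n = m + 2 := ⟨n - 2, by omega⟩
    simp only [Nat.add_sub_cancel] at hz ⊢
    rw [Nat.card_zpowers, pow_add, ← mul_assoc, ← sq, mul_comm] at h1
    exact le_antisymm (Nat.le_of_dvd (pow_pos hp.pos _) (orderOf_dvd_of_pow_eq_one hz))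
      (Nat.le_of_mul_le_mul_left h1 (pow_pos hp.pos 2))
  · intro hzf
    have hle : closure ({x, y, z} : Set P) ≤ closure ({x, y} : Set P) ⊔ frattini P := by
      rw [closure_le]
      rintro u (rfl | rfl | rfl)
      · exact mem_sup_left (subset_closure (by simp))
      · exact mem_sup_left (subset_closure (by simp))
      · exact mem_sup_right hzf
    rw [hgen, top_le_iff] at hle
    have htop := frattini_nongenerating hle
    have hsub : closure ({x, y} : Set P) ≤ closure ({x, y, w} : Set P) := closure_mono (by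
      rintro u (rfl | rfl) <;> simp)
    rw [htop, top_le_iff] at hsub
    have hwp : w ^ p = 1 := by
      rw [hw, ← pow_mul, ← pow_succ, show n - 3 + 1 = n - 2 by omega, hz]
    have hb := card_closure_triple_le x y w hcy.eq
      (by rw [hxy]; exact mul_mem (subset_closure (by simp)) (pow_mem (subset_closure (by simp)) _))
      (by rw [hwx]; exact subset_closure (by simp))
    rw [hsub, card_top, hP] at hb
    have h1 := hb.trans (Nat.mul_le_mul (card_zpowers_le hp.pos hx)
      (Nat.mul_le_mul (card_zpowers_le hp.pos hy) (card_zpowers_le hp.pos hwp)))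
    rw [← sq, ← pow_succ'] at h1
    have := (Nat.pow_le_pow_iff_right hp.one_lt).1 h1
    omega

/-- An exponent congruent to one modulo `p` moves `z` only modulo the Frattini subgroup. -/
theorem zpow_mul_inv_mem_frattini (hPp : IsPGroup p P) {z w : P} (hwo : orderOf w = p) {k : ℤ}
    (h : w ^ k = w) : z ^ k * z⁻¹ ∈ frattini P := by
  have h1 : w ^ (k - 1) = 1 := by rw [zpow_sub, zpow_one, h, mul_inv_cancel]
  rw [← orderOf_dvd_iff_zpow_eq_one, hwo] at h1
  obtain ⟨l, hl⟩ := h1
  rw [show z ^ k * z⁻¹ = z ^ (k - 1) by rw [zpow_sub, zpow_one], hl, zpow_mul, zpow_natCast]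
  exact zpow_mem (CfsgLib.Transfer.pow_mem_frattini hPp z) l

variable (S : Subgroup (MulAut P))

/-- First family, `n ≥ 4`: impossible. -/
theorem typeI_false {n : ℕ} (hP : Nat.card P = p ^ n) (hn : 4 ≤ n) {x0 : P} (hx0 : orderOf x0 = p)
    (hx0c : x0 ∈ center P) (hfix : ∀ α ∈ S, α x0 = x0)
    (hv : ∀ v : P, (∀ α ∈ S, α v * v⁻¹ ∈ frattini P) → v ∈ frattini P) (x y z : P)
    (hgen : closure ({x, y, z} : Set P) = ⊤) (hx : x ^ p = 1) (hy : y ^ p = 1) (hz : z ^ p ^ (n - 2) = 1)
    (hxz : x * z = z * x) (hyz : y * z = z * y) (hxy : x⁻¹ * y * x = y * z ^ p ^ (n - 3)) : False := by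
  have hp := (Fact.out : p.Prime)
  have hPp : IsPGroup p P := IsPGroup.of_card hP
  have hzA : z ∈ closure ({y, z} : Set P) := subset_closure (by simp)
  have hxzA : x⁻¹ * z * x ∈ closure ({y, z} : Set P) := by
    rwa [mul_assoc, ← hxz, inv_mul_cancel_left]
  have hwx : x⁻¹ * z ^ p ^ (n - 3) * x = z ^ p ^ (n - 3) := by
    rw [mul_assoc, ← ((show Commute x z from hxz).pow_right _).eq, inv_mul_cancel_left]
  obtain ⟨hzo, hzf, -⟩ := family_facts hP hn x y z hgen hx hy hz hyz 1 (by rwa [pow_one]) hxzA hwx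
  set w := z ^ p ^ (n - 3) with hw
  have hwo : orderOf w = p := by
    rw [hw, orderOf_pow' _ (pow_pos hp.pos _).ne', hzo,
      Nat.gcd_eq_right (pow_dvd_pow p (by omega : n - 3 ≤ n - 2)), Nat.pow_div (by omega) hp.pos,
      show n - 2 - (n - 3) = 1 by omega, pow_one]
  have hne : x * y ≠ y * x := fun h => by
    rw [mul_assoc, ← h, inv_mul_cancel_left, left_eq_mul] at hxy
    rw [hxy, orderOf_one] at hwo
    exact hp.one_lt.ne hwo
  have hform := closure_triple_eq x y z hyz
    (by rw [hxy]; exact mul_mem (subset_closure (by simp)) (pow_mem hzA _)) hxzA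
  rw [hgen] at hform
  have hcent : ∀ q ∈ center P, ∃ k : ℤ, q = z ^ k := by
    intro q hq
    obtain ⟨_, ⟨i, rfl⟩, _, ⟨_, ⟨j, rfl⟩, _, ⟨k, rfl⟩, rfl⟩, hq'⟩ := hform.le (mem_top q : q ∈ (⊤ : Subgroup P))
    dsimp only at hq'
    have hcy : Commute (y ^ j * z ^ k) y :=
      ((Commute.refl y).zpow_left j).mul_left ((show Commute z y from hyz.symm).zpow_left k)
    have h1 : x ^ i = 1 := by
      refine zpow_eq_one_of_commute hx hne ?_
      have h2 : x ^ i = q * (y ^ j * z ^ k)⁻¹ := by rw [← hq']; group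
      rw [h2]
      exact (show Commute q y from (mem_center_iff.1 hq y).symm).mul_left hcy.inv_left
    rw [h1, one_mul] at hq'
    have h3 : y ^ j = 1 := by
      refine zpow_eq_one_of_commute hy hne.symm ?_
      have h2 : y ^ j = q * (z ^ k)⁻¹ := by rw [← hq']; group
      rw [h2]
      exact (show Commute q x from (mem_center_iff.1 hq x).symm).mul_left
        (((show Commute z x from hxz.symm).zpow_left k).inv_left)
    exact ⟨k, by rw [← hq', h3, one_mul]⟩
  have hwx0 : zpowers w = zpowers x0 := by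
    symm
    refine eq_of_le_of_card_ge (zpowers_le.2 ?_) (by rw [Nat.card_zpowers, Nat.card_zpowers, hwo, hx0])
    obtain ⟨k, hk⟩ := hcent x0 hx0c
    have h1 : z ^ (k * p) = 1 := by rw [zpow_mul, ← hk, zpow_natCast, ← hx0, pow_orderOf_eq_one]
    rw [← orderOf_dvd_iff_zpow_eq_one, hzo, show n - 2 = n - 3 + 1 by omega, pow_succ, Nat.cast_mul] at h1
    obtain ⟨l, rfl⟩ := Int.dvd_of_mul_dvd_mul_right (by exact_mod_cast hp.ne_zero) h1
    exact ⟨l, by rw [hk, zpow_mul, zpow_natCast]⟩
  refine hzf (hv z fun α hα => ?_)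
  have hzc : z ∈ center P := by
    have hle : closure ({x, y, z} : Set P) ≤ centralizer ({z} : Set P) := by
      rw [closure_le]
      rintro u (rfl | rfl | rfl) <;> refine mem_centralizer_singleton_iff.2 ?_ <;>
        first | rfl | assumption
    rw [hgen] at hle
    exact mem_center_iff.2 fun g => mem_centralizer_singleton_iff.1 (hle (mem_top g))
  obtain ⟨k, hk⟩ := hcent (α z) (mem_center_iff.2 fun g => by
    have := congrArg α (mem_center_iff.1 hzc (α.symm g))
    simpa using this)
  rw [hk]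
  refine zpow_mul_inv_mem_frattini hPp hwo ?_
  have h1 : α w = w := by
    obtain ⟨l, hl⟩ := mem_zpowers_iff.1 (hwx0.le (mem_zpowers w))
    rw [← hl, map_zpow, hfix α hα]
  rw [hw, map_pow, hk, ← zpow_natCast, ← zpow_mul, mul_comm, zpow_mul, zpow_natCast] at h1
  rw [hw]
  exact h1

/-- Second family: impossible. -/
theorem typeII_false {n : ℕ} (hP : Nat.card P = p ^ n) (hn : 4 ≤ n) {x0 : P} (hx0 : orderOf x0 = p)
    (hx0c : x0 ∈ center P) (hfix : ∀ α ∈ S, α x0 = x0)
    (hv : ∀ v : P, (∀ α ∈ S, α v * v⁻¹ ∈ frattini P) → v ∈ frattini P) (s : ℕ) (x y z : P)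
    (hs : s = 1 ∨ ¬ IsSquare (s : ZMod p))
    (hgen : closure ({x, y, z} : Set P) = ⊤) (hx : x ^ p = 1) (hy : y ^ p = 1) (hz : z ^ p ^ (n - 2) = 1)
    (hyz : y * z = z * y) (hxy : x⁻¹ * y * x = y * z ^ (s * p ^ (n - 3))) (hxz : x⁻¹ * z * x = y * z) :
    False := by
  have hp := (Fact.out : p.Prime)
  have hPp : IsPGroup p P := IsPGroup.of_card hP
  have hzA : z ∈ closure ({y, z} : Set P) := subset_closure (by simp)
  have hyA : y ∈ closure ({y, z} : Set P) := subset_closure (by simp)
  have hxzA : x⁻¹ * z * x ∈ closure ({y, z} : Set P) := by rw [hxz]; exact mul_mem hyA hzA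
  have hconj : ∀ (u : P) (m : ℤ), x⁻¹ * u ^ m * x = (x⁻¹ * u * x) ^ m := fun u m => by
    have := conj_zpow (a := x⁻¹) (b := u) (i := m)
    rw [inv_inv] at this
    exact this.symm
  have hpd : y ^ p ^ (n - 3) = 1 := by
    rw [show n - 3 = n - 4 + 1 by omega, pow_succ', pow_mul, hy, one_pow]
  have hwx : x⁻¹ * z ^ p ^ (n - 3) * x = z ^ p ^ (n - 3) := by
    rw [← zpow_natCast, hconj, hxz, zpow_natCast, (show Commute y z from hyz).mul_pow, hpd, one_mul,
      zpow_natCast]
  rw [mul_comm s, pow_mul] at hxy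
  obtain ⟨hzo, hzf, hwc⟩ := family_facts hP hn x y z hgen hx hy hz hyz s hxy hxzA hwx
  set w := z ^ p ^ (n - 3) with hw
  have hwo : orderOf w = p := by
    rw [hw, orderOf_pow' _ (pow_pos hp.pos _).ne', hzo,
      Nat.gcd_eq_right (pow_dvd_pow p (by omega : n - 3 ≤ n - 2)), Nat.pow_div (by omega) hp.pos,
      show n - 2 - (n - 3) = 1 by omega, pow_one]
  have hws : w ^ s ≠ 1 := by
    intro h
    rw [← orderOf_dvd_iff_pow_eq_one, hwo] at h
    rcases hs with rfl | hs
    · exact hp.ne_one (Nat.dvd_one.1 h)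
    · exact hs (by rw [(ZMod.natCast_eq_zero_iff s p).2 h]; exact IsSquare.zero)
  have hne : x * y ≠ y * x := fun h => by
    rw [mul_assoc, ← h, inv_mul_cancel_left, left_eq_mul] at hxy
    exact hws hxy
  have hform := closure_triple_eq x y z hyz
    (by rw [hxy]; exact mul_mem hyA (pow_mem (pow_mem hzA _) _)) hxzA
  rw [hgen] at hform
  have hCy : ∀ q : P, Commute q y → ∃ j k : ℤ, q = y ^ j * z ^ k := by
    intro q hq
    obtain ⟨_, ⟨i, rfl⟩, _, ⟨_, ⟨j, rfl⟩, _, ⟨k, rfl⟩, rfl⟩, hq'⟩ := hform.le (mem_top q : q ∈ (⊤ : Subgroup P))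
    dsimp only at hq'
    have hcy : Commute (y ^ j * z ^ k) y :=
      ((Commute.refl y).zpow_left j).mul_left ((show Commute z y from hyz.symm).zpow_left k)
    have h1 : x ^ i = 1 := by
      refine zpow_eq_one_of_commute hx hne ?_
      have h2 : x ^ i = q * (y ^ j * z ^ k)⁻¹ := by rw [← hq']; group
      rw [h2]
      exact hq.mul_left hcy.inv_left
    exact ⟨j, k, by rw [← hq', h1, one_mul]⟩
  -- the derived subgroup
  set E := closure ({y, w} : Set P) with hE
  haveI hEn : E.Normal := by
    rw [← normalizer_eq_top_iff, ← top_le_iff, ← hgen, closure_le]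
    intro u hu
    have hle : E.map (MulAut.conj u⁻¹).toMonoidHom ≤ E := by
      rw [hE, MonoidHom.map_closure, closure_le]
      rintro _ ⟨v, (rfl | rfl), rfl⟩
      · simp only [MulEquiv.coe_toMonoidHom, MulAut.conj_apply, inv_inv, SetLike.mem_coe]
        rcases hu with rfl | rfl | rfl
        · rw [hxy]; exact mul_mem (subset_closure (by simp)) (pow_mem (subset_closure (by simp)) _)
        · rw [inv_mul_cancel, one_mul]; exact subset_closure (by simp)
        · rw [mul_assoc, hyz, inv_mul_cancel_left]; exact subset_closure (by simp)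
      · simp only [MulEquiv.coe_toMonoidHom, MulAut.conj_apply, inv_inv, SetLike.mem_coe]
        rw [mul_assoc, ← mem_center_iff.1 hwc u, inv_mul_cancel_left]
        exact subset_closure (by simp)
    have he := eq_of_le_of_card_ge hle (card_map_of_injective (MulEquiv.injective _)).ge
    rw [SetLike.mem_coe, ← inv_mem_iff, mem_normalizer_iff]
    intro v
    conv_rhs => rw [← he, mem_map_equiv, MulAut.conj_symm_apply]
    simp [mul_assoc]
  have hcomE : _root_.commutator P ≤ E := by
    set π := QuotientGroup.mk' E with hπ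
    have hy1 : π y = 1 := (QuotientGroup.eq_one_iff y).2 (subset_closure (by simp))
    have hzx : π z * π x = π x * π z := by
      have h := congrArg π hxz
      rw [map_mul, map_mul, map_inv, map_mul, hy1, one_mul, mul_assoc, inv_mul_eq_iff_eq_mul] at h
      exact h
    have hcomm : IsMulCommutative (closure (π '' ({x, y, z} : Set P))) := by
      refine isMulCommutative_closure ?_
      rintro _ ⟨u, hu, rfl⟩ _ ⟨v, hv, rfl⟩
      rcases hu with rfl | rfl | rfl <;> rcases hv with rfl | rfl | rfl <;>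
        first | rfl | exact hzx | exact hzx.symm | simp [hy1]
    rw [← MonoidHom.map_closure, hgen, map_top_of_surjective _ (QuotientGroup.mk'_surjective E)] at hcomm
    rw [_root_.commutator_def, commutator_le]
    intro u _ v _
    rw [← QuotientGroup.eq_one_iff, ← QuotientGroup.mk'_apply, map_commutatorElement,
      commutatorElement_eq_one_iff_mul_comm]
    exact congrArg Subtype.val (hcomm.is_comm.comm (⟨π u, mem_top _⟩ : (⊤ : Subgroup (P ⧸ E))) ⟨π v, mem_top _⟩)
  have hyP : y ∈ _root_.commutator P := by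
    have : y = ⁅x⁻¹, z⁆ := by rw [commutatorElement_def, inv_inv, hxz, mul_inv_cancel_right]
    rw [this, _root_.commutator_def]
    exact commutator_mem_commutator (mem_top _) (mem_top _)
  have hzE : ∀ e ∈ _root_.commutator P, Commute z e := by
    intro e he
    have hle : E ≤ centralizer ({z} : Set P) := by
      rw [hE, closure_le]
      rintro u (rfl | rfl) <;> refine mem_centralizer_singleton_iff.2 ?_
      · exact hyz
      · exact ((Commute.refl z).pow_left _).eq
    exact (show e * z = z * e from mem_centralizer_singleton_iff.1 (hle (hcomE he))).symm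
  -- `⟨w⟩ = ⟨x₀⟩`
  have hwx0 : zpowers w = zpowers x0 := by
    symm
    refine eq_of_le_of_card_ge (zpowers_le.2 ?_) (by rw [Nat.card_zpowers, Nat.card_zpowers, hwo, hx0])
    obtain ⟨j, k, hjk⟩ := hCy x0 (mem_center_iff.1 hx0c y).symm
    have h1 : x⁻¹ * x0 * x = x0 := by rw [mul_assoc, ← mem_center_iff.1 hx0c x, inv_mul_cancel_left]
    have hwy : Commute y (w ^ s) := (show Commute y z from hyz).pow_right _ |>.pow_right _
    have h2 : x⁻¹ * x0 * x = (w ^ s) ^ j * y ^ k * x0 := by
      rw [hjk, show x⁻¹ * (y ^ j * z ^ k) * x = (x⁻¹ * y ^ j * x) * (x⁻¹ * z ^ k * x) by group,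
        hconj, hconj, hxy, hxz, hwy.mul_zpow, (show Commute y z from hyz).mul_zpow]
      have hc1 : ∀ g : P, g * (w ^ s) ^ j = (w ^ s) ^ j * g :=
        mem_center_iff.1 (zpow_mem (pow_mem hwc s) j)
      have hc2 : y ^ k * y ^ j = y ^ j * y ^ k := ((Commute.refl y).zpow_zpow k j).eq
      rw [hc1 (y ^ j)]
      simp only [mul_assoc]
      rw [← mul_assoc (y ^ j) (y ^ k), ← hc2, mul_assoc]
    have h3 : (w ^ s) ^ j * y ^ k = 1 := mul_right_cancel (b := x0) (by rw [← h2, h1, one_mul])
    have hyk : y ^ k = 1 := by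
      by_contra hne'
      obtain ⟨l, hl⟩ := mem_zpowers_iff.1 (mem_zpowers_zpow hy hne')
      have hyc : y ∈ center P := by
        rw [← hl, eq_inv_of_mul_eq_one_right h3]
        exact zpow_mem (inv_mem (zpow_mem (pow_mem hwc s) j)) l
      exact hne (mem_center_iff.1 hyc x)
    rw [hyk, mul_one] at h3
    have hyj : y ^ j = 1 := by
      have hwso : orderOf (w ^ s) = p := orderOf_eq_prime
        (by rw [← pow_mul, mul_comm, pow_mul, ← hwo, pow_orderOf_eq_one, one_pow]) hws
      rw [← orderOf_dvd_iff_zpow_eq_one, hwso] at h3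
      obtain ⟨l, rfl⟩ := h3
      rw [zpow_mul, zpow_natCast, hy, one_zpow]
    rw [hyj, one_mul] at hjk
    have h4 : z ^ (k * p) = 1 := by rw [zpow_mul, ← hjk, zpow_natCast, ← hx0, pow_orderOf_eq_one]
    rw [← orderOf_dvd_iff_zpow_eq_one, hzo, show n - 2 = n - 3 + 1 by omega, pow_succ, Nat.cast_mul] at h4
    obtain ⟨l, rfl⟩ := Int.dvd_of_mul_dvd_mul_right (by exact_mod_cast hp.ne_zero) h4
    exact ⟨l, by rw [hjk, zpow_mul, zpow_natCast]⟩
  refine hzf (hv z fun α hα => ?_)
  have hαy : α⁻¹ y ∈ _root_.commutator P :=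
    Characteristic.fixed (H := _root_.commutator P) inferInstance α⁻¹ |>.ge hyP
  obtain ⟨j, k, hjk⟩ := hCy (α z) (by
    have := (hzE _ hαy).map α.toMonoidHom
    simpa using this)
  have hyf : y ∈ frattini P := CfsgLib.Transfer.commutator_le_frattini_pgroup hPp hyP
  rw [hjk, mul_assoc]
  refine mul_mem (zpow_mem hyf j) (zpow_mul_inv_mem_frattini hPp hwo ?_)
  have h1 : α w = w := by
    obtain ⟨l, hl⟩ := mem_zpowers_iff.1 (hwx0.le (mem_zpowers w))
    rw [← hl, map_zpow, hfix α hα]
  rw [hw, map_pow, hjk, ((show Commute y z from hyz).zpow_zpow j k).mul_pow, ← zpow_natCast (y ^ j),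
    ← zpow_mul, mul_comm j, zpow_mul, zpow_natCast, hpd, one_zpow, one_mul, ← zpow_natCast, ← zpow_mul,
    mul_comm, zpow_mul, zpow_natCast] at h1
  rw [hw]
  exact h1

/-- First family, `n = 3`: extraspecial of exponent `p`. -/
theorem typeI_three (hp2 : p ≠ 2) (hP : Nat.card P = p ^ 3) (x y z : P)
    (hgen : closure ({x, y, z} : Set P) = ⊤) (hx : x ^ p = 1) (hy : y ^ p = 1) (hz : z ^ p = 1)
    (hxz : x * z = z * x) (hyz : y * z = z * y) (hxy : x⁻¹ * y * x = y * z) :
    Cfsg.IsExtraspecial p P ∧ ∀ g : P, g ^ p = 1 := by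
  have hp := (Fact.out : p.Prime)
  have hne : x * y ≠ y * x := fun h => by
    rw [mul_assoc, ← h, inv_mul_cancel_left, left_eq_mul] at hxy
    subst hxy
    have hb := card_closure_triple_le x y (1 : P) (by simp)
      (by rw [mul_assoc, ← h, inv_mul_cancel_left]; exact subset_closure (by simp))
      (by simp [one_mem])
    rw [hgen, card_top, hP, zpowers_one_eq_bot, card_bot, mul_one] at hb
    have h1 := hb.trans (Nat.mul_le_mul (card_zpowers_le hp.pos hx) (card_zpowers_le hp.pos hy))
    rw [← sq] at h1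
    have := (Nat.pow_le_pow_iff_right hp.one_lt).1 h1
    omega
  have hE : Cfsg.IsExtraspecial p P := CfsgLib.Invol.EssentialFour.extraspecial_cube hP hne
  refine ⟨hE, fun g => ?_⟩
  refine CfsgLib.Transfer.pow_eq_one_of_mem_closure_class_two hp hp2 (fun u v => ?_) ?_
  · rw [← hE.1.2.2, _root_.commutator_def]
    exact commutator_mem_commutator (mem_top u) (mem_top v)
  · refine closure_mono ?_ (hgen.ge (mem_top g))
    rintro u (rfl | rfl | rfl) <;> assumption

end CfsgLib.RankTwoIso
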