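import Cfsg.Agent.Lib.RankTwoIso.LocalStep
import Cfsg.Agent.Lib.Transfer.Focal

/-!
In rank two with a central element of order `p`, the focal subgroup of a Sylow subgroup lies in
`[P, N(P)] Φ(P)`.
-/

set_option autoImplicit false
set_option linter.unusedSectionVars false
set_option linter.style.haveILetI false

namespace CfsgLib.RankTwoIso

open Subgroup CfsgLib.Transfer
open scoped commutatorElement

variable {G : Type*} [Group G] [Finite G] {p : ℕ} [Fact p.Prime]

/-- `[P, N(P)] Φ(P)`. -/
abbrev focM (P : Sylow p G) : Subgroup G :=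
  ⁅(P : Subgroup G), normalizer ((P : Subgroup G) : Set G)⁆ ⊔ (frattini P).map (P : Subgroup G).subtype

theorem focM_le (P : Sylow p G) : focM P ≤ (P : Subgroup G) := by
  refine sup_le ?_ (map_subtype_le _)
  exact le_normalizer_iff_commutator_le_left.mp le_rfl

theorem good_of_reach {P : Sylow p G} {M : Subgroup G} {c : ℕ}
    (hall : ∀ Q' : Sylow p G, Tame P Q' → c ≤ Nat.card ((P : Subgroup G) ⊓ (Q' : Subgroup G) : Subgroup G) →
      ∀ g ∈ normalizer ((((P : Subgroup G) ⊓ (Q' : Subgroup G)) : Subgroup G) : Set G),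
        Good M ((P : Subgroup G) ⊓ (Q' : Subgroup G)) g)
    {D : Subgroup G} {g : G} (h : Reach P D g) : c ≤ Nat.card D → Good M D g := by
  induction h with
  | one D => intro _ y _; simp [one_mem]
  | cons D Q' x g hT hx hD _ ih =>
    intro hc y hy
    have h1 := hall Q' hT (hc.trans (card_le_of_le hD)) x hx y (hD hy)
    have h2 : x⁻¹ * y * x ∈ rconj x D := mem_rconj.2 (by simpa [mul_assoc] using hy)
    have hcard : Nat.card (rconj x D) = Nat.card D := card_map_of_injective (MulEquiv.injective _)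
    have h3 := ih (hcard ▸ hc) _ h2
    have := mul_mem h1 h3
    simpa [mul_assoc] using this

theorem focal_le (hp2 : p ≠ 2) (hrank : Cfsg.PRankLE p 2 G) {x : G} (hx : orderOf x = p)
    (hxc : x ∈ center G) (P : Sylow p G) : (P : Subgroup G).focalSubgroup ≤ focM P := by
  set M := focM P
  have hcommP : ∀ a ∈ (P : Subgroup G), ∀ b ∈ (P : Subgroup G), ⁅a, b⁆ ∈ M := fun a ha b hb =>
    mem_sup_left (commutator_mem_commutator ha (le_normalizer hb))
  have hpowP : ∀ a ∈ (P : Subgroup G), a ^ p ∈ M := fun a ha =>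
    mem_sup_right ⟨_, CfsgLib.Transfer.pow_mem_frattini P.2 ⟨a, ha⟩, rfl⟩
  have key : ∀ n : ℕ, ∀ Q' : Sylow p G, Tame P Q' →
      Nat.card (P : Subgroup G) - Nat.card ((P : Subgroup G) ⊓ (Q' : Subgroup G) : Subgroup G) = n →
      ∀ g ∈ normalizer ((((P : Subgroup G) ⊓ (Q' : Subgroup G)) : Subgroup G) : Set G),
        Good M ((P : Subgroup G) ⊓ (Q' : Subgroup G)) g := by
    intro n
    induction n using Nat.strong_induction_on with
    | _ n ih =>
      intro Q' hT hn
      set Q := (P : Subgroup G) ⊓ (Q' : Subgroup G) with hQdef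
      have hQP : Q ≤ (P : Subgroup G) := inf_le_left
      rcases hQP.lt_or_eq with hlt | heq
      swap
      · intro g hg y hy
        rw [heq] at hg hy
        have := commutator_mem_commutator (inv_mem hy) (inv_mem hg)
        exact mem_sup_left (by simpa [commutatorElement_def, mul_assoc] using this)
      set R := (P : Subgroup G) ⊓ normalizer (Q : Set G)
      have hQR : Q ≤ R := le_inf hQP le_normalizer
      have hQlt : Nat.card Q < Nat.card R := by
        obtain ⟨y, hyP, hyN, hyQ⟩ := exists_mem_normalizer_not_mem P.2 hlt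
        exact lt_of_le_of_ne (card_le_of_le hQR) fun e =>
          hyQ ((eq_of_le_of_card_ge hQR e.ge).ge ⟨hyP, hyN⟩)
      refine normalizer_good hp2 hrank hx hxc hQR inf_le_right (P.2.to_le inf_le_left) hT.1
        ⟨mem_sylow_of_central hx hxc P, mem_sylow_of_central hx hxc Q'⟩
        (fun a ha b hb => hcommP a ha.1 b hb.1) (fun a ha => hpowP a ha.1) ?_
      intro g _ hgR y hy
      have hgRP : rconj g R ≤ (P : Subgroup G) := (rconj_eq_of_mem_normalizer hgR).le.trans inf_le_left
      refine good_of_reach (c := Nat.card R) ?_ (reach_of_le P R g inf_le_left hgRP) le_rfl y (hQR hy)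
      intro Q'' hT'' hc
      refine ih _ ?_ Q'' hT'' rfl
      have := card_le_of_le (inf_le_left : (P : Subgroup G) ⊓ (Q'' : Subgroup G) ≤ _)
      omega
  rw [focalSubgroup_def, closure_le]
  rintro _ ⟨hmem, a, ha, u, rfl⟩
  have hy : a⁻¹ ∈ (P : Subgroup G) := inv_mem ha
  have hg : rconj u⁻¹ (zpowers a⁻¹) ≤ (P : Subgroup G) := by
    rw [rconj, MonoidHom.map_zpowers, zpowers_le]
    have := mul_mem (inv_mem ha) hmem
    simpa [commutatorElement_def, mul_assoc] using this
  have h := good_of_reach (c := 0) (fun Q' hT _ => key _ Q' hT rfl)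
    (reach_of_le P (zpowers a⁻¹) u⁻¹ (zpowers_le.2 hy) hg) (Nat.zero_le _) a⁻¹ (mem_zpowers _)
  simpa [commutatorElement_def, mul_assoc] using h

/-- If `P ≤ G'` then `P = [P, N(P)] Φ(P)`. -/
theorem sylow_eq_focM (hp2 : p ≠ 2) (hrank : Cfsg.PRankLE p 2 G) {x : G} (hx : orderOf x = p)
    (hxc : x ∈ center G) (P : Sylow p G) (hP : (P : Subgroup G) ≤ _root_.commutator G) :
    focM P = (P : Subgroup G) := by
  refine le_antisymm (focM_le P) ?_
  refine le_trans ?_ (focal_le hp2 hrank hx hxc P)
  rw [← commutator_inf_eq_focalSubgroup]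
  exact le_inf hP le_rfl

end CfsgLib.RankTwoIso
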