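import Cfsg.Agent.Lib.RankTwoIso.Basic

/-!
The normalizer of a `p`-subgroup containing a central element of order `p` in rank two fuses only
modulo a prescribed subgroup `M`.
-/

set_option autoImplicit false
set_option linter.unusedSectionVars false
set_option linter.style.haveILetI false

namespace CfsgLib.RankTwoIso

open Subgroup
open scoped commutatorElement

variable {G : Type*} [Group G]

/-- The transporter `g` changes elements of `D` only modulo `M`. -/
def Good (M D : Subgroup G) (g : G) : Prop := ∀ y ∈ D, y⁻¹ * (g⁻¹ * y * g) ∈ M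

/-- Good elements of the normalizer. -/
def goodSub (M Q : Subgroup G) : Subgroup G where
  carrier := {g | g ∈ normalizer (Q : Set G) ∧ Good M Q g}
  one_mem' := ⟨one_mem _, fun y _ => by simp [one_mem]⟩
  mul_mem' := by
    rintro a b ⟨haN, ha⟩ ⟨hbN, hb⟩
    refine ⟨mul_mem haN hbN, fun y hy => ?_⟩
    have h1 : a⁻¹ * y * a ∈ Q := by
      have := (mem_normalizer_iff.1 (inv_mem haN) y).1 hy
      rwa [inv_inv] at this
    have := mul_mem (ha y hy) (hb _ h1)
    simpa [mul_assoc] using this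
  inv_mem' := by
    rintro a ⟨haN, ha⟩
    refine ⟨inv_mem haN, fun y hy => ?_⟩
    have := inv_mem (ha _ ((mem_normalizer_iff.1 haN y).1 hy))
    simpa [mul_assoc] using this

theorem mem_goodSub {M Q : Subgroup G} {g : G} :
    g ∈ goodSub M Q ↔ g ∈ normalizer (Q : Set G) ∧ Good M Q g := Iff.rfl

variable [Finite G] {p : ℕ} [Fact p.Prime]

theorem coprime_pow_mem {w : G} (hw : (orderOf w).Coprime p) {H : Subgroup G} {k : ℕ}
    (h : w ^ p ^ k ∈ H) : w ∈ H := by
  obtain ⟨m, hm⟩ := exists_pow_eq_self_of_coprime (hw.pow_right k).symm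
  rw [← hm]; exact pow_mem h m

/-- Frattini criterion: what normalizes `W` lies in any subgroup `T` containing the centralizer,
a Sylow subgroup `R` of `N` and its normalizer in `N`, when the `p'`-part of `W` centralizes `Q`. -/
theorem criterion {N R W T Q : Subgroup G} (hNQ : N ≤ normalizer (Q : Set G))
    (hR : IsPGroup p R) (hRW : R ≤ W) (hWN : W ≤ N) (hRS : ¬ p ∣ R.relIndex N)
    (hW : ∀ w ∈ W, (orderOf w).Coprime p → ∀ q ∈ Q, w * q * w⁻¹ = q)
    (hC : N ⊓ centralizer (Q : Set G) ≤ T) (hRT : R ≤ T)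
    (hNR : ∀ g ∈ N, g ∈ normalizer (R : Set G) → g ∈ T)
    {n : G} (hn : n ∈ N) (hnW : n ∈ normalizer (W : Set G)) : n ∈ T := by
  have hp := (Fact.out : p.Prime)
  have hRW' : ¬ p ∣ R.relIndex W := fun h =>
    hRS (h.trans ⟨W.relIndex N, (relIndex_mul_relIndex R W N hRW hWN).symm⟩)
  have hWT : W ≤ T := by
    have h1 : ¬ p ∣ T.relIndex W := fun h => hRW' (h.trans (relIndex_dvd_of_le_left W hRT))
    set C := (centralizer (Q : Set G)).subgroupOf W
    haveI : C.Normal := by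
      refine ⟨fun c hc w => ?_⟩
      rw [mem_subgroupOf, mem_centralizer_iff] at hc ⊢
      intro q hq
      have hq' : (w : G)⁻¹ * q * w ∈ Q := by
        have := (mem_normalizer_iff.1 (inv_mem (hNQ (hWN w.2))) q).1 hq
        rwa [inv_inv] at this
      have h2 := hc _ hq'
      simp only [Subgroup.coe_mul, InvMemClass.coe_inv]
      calc q * ((w : G) * c * (w : G)⁻¹) = w * (((w : G)⁻¹ * q * w) * c) * (w : G)⁻¹ := by group
        _ = (w : G) * c * (w : G)⁻¹ * q := by rw [h2]; group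
    have hq : IsPGroup p (W ⧸ C) := by
      intro a
      induction a using QuotientGroup.induction_on with
      | _ w =>
        obtain ⟨k, m, hpm, hm⟩ := Nat.exists_eq_pow_mul_and_not_dvd (orderOf_pos (w : G)).ne' p hp.ne_one
        refine ⟨k, ?_⟩
        rw [← QuotientGroup.mk_pow, QuotientGroup.eq_one_iff, mem_subgroupOf, mem_centralizer_iff]
        intro q hq
        have := hW ((w : G) ^ p ^ k) (pow_mem w.2 _) (by
          rw [orderOf_pow, hm, Nat.gcd_eq_right (dvd_mul_right _ _),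
            Nat.mul_div_cancel_left _ (pow_pos hp.pos k)]
          exact (hp.coprime_iff_not_dvd.2 hpm).symm) q hq
        rw [Subgroup.coe_pow]
        exact (mul_inv_eq_iff_eq_mul.1 this).symm
    obtain ⟨j, hj⟩ := IsPGroup.iff_card.1 hq
    rw [← index_eq_card] at hj
    have h2 : T.relIndex W ∣ p ^ j := by
      rw [← hj]
      refine Subgroup.index_dvd_of_le (fun c hc => ?_)
      exact mem_subgroupOf.2 (hC ⟨hWN c.2, hc⟩)
    obtain ⟨i, -, hi⟩ := (Nat.dvd_prime_pow hp).1 h2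
    rcases i with _ | i
    · exact relIndex_eq_one.1 hi
    · exact absurd (hi ▸ dvd_pow_self p i.succ_ne_zero) h1
  -- Frattini
  have hW' : CfsgLib.Transfer.rconj n W = W := CfsgLib.Transfer.rconj_eq_of_mem_normalizer hnW
  obtain ⟨c, hc, hcR⟩ := CfsgLib.Transfer.exists_conj_of_not_dvd (p := p) (N := W)
    (A := CfsgLib.Transfer.rconj n R) (B := R) (hR.map _) hR
    ((CfsgLib.Transfer.rconj_mono hRW).trans hW'.le) hRW
    (by
      have h : (CfsgLib.Transfer.rconj n R).relIndex (CfsgLib.Transfer.rconj n W) = R.relIndex W :=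
        relIndex_map_map_of_injective _ _ (MulEquiv.injective _)
      rw [hW'] at h
      rwa [h]) hRW'
  rw [CfsgLib.Transfer.rconj_rconj] at hcR
  have hnc : n * c ∈ normalizer (R : Set G) := by
    rw [mem_normalizer_iff]
    intro y
    conv_lhs => rw [← hcR, CfsgLib.Transfer.mem_rconj]
  have h3 := mul_mem (hNR _ (mul_mem hn (hWN hc)) hnc) (inv_mem (hWT hc))
  rwa [mul_inv_cancel_right] at h3

/-- An element inducing an automorphism of order two of `D / ⟨x⟩` inverts it. -/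
theorem inverts_of_sq (hp2 : p ≠ 2) {x : G} (hx : orderOf x = p) (hxc : x ∈ center G) {D : Subgroup G}
    (hexp : ∀ d ∈ D, d ^ p = 1) (hcom : ∀ a ∈ D, ∀ b ∈ D, ⁅a, b⁆ ∈ zpowers x)
    (hpair : ∀ a ∈ D, a ∉ zpowers x → ∀ b ∈ D, a * b = b * a → b ∈ zpowers a ⊔ zpowers x)
    {t : G} (htN : t ∈ normalizer (D : Set G)) (ht : t ∉ actKer D (zpowers x) (zpowers_le_center hxc))
    (ht2 : t * t ∈ actKer D (zpowers x) (zpowers_le_center hxc)) :
    ∀ d ∈ D, d * (t * d * t⁻¹) ∈ zpowers x := by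
  set Z := zpowers x with hZdef
  haveI hZn : Z.Normal := ⟨fun a ha g => by rw [fixes_zpowers hxc g a ha]; exact ha⟩
  set π := QuotientGroup.mk' Z with hπ
  have hmem : ∀ g : G, π g = 1 ↔ g ∈ Z := fun g => QuotientGroup.eq_one_iff g
  have hcent : ∀ z ∈ Z, ∀ g : G, g * z = z * g := fun z hz => mem_center_iff.1 (zpowers_le_center hxc hz)
  have hconjD : ∀ d ∈ D, t * d * t⁻¹ ∈ D := fun d hd => (mem_normalizer_iff.1 htN d).1 hd
  have hcomm : ∀ a ∈ D, ∀ b ∈ D, π a * π b = π b * π a := fun a ha b hb => by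
    rw [← commutatorElement_eq_one_iff_mul_comm, ← map_commutatorElement, hmem]
    exact hcom a ha b hb
  have hodd : ∀ d ∈ D, π d * π d = 1 → π d = 1 := by
    intro d hd h
    have h1 : π d ^ p = 1 := by rw [← map_pow, hexp d hd, map_one]
    refine orderOf_eq_one_iff.1 (Nat.eq_one_of_dvd_coprimes ?_
      (orderOf_dvd_of_pow_eq_one (n := 2) (by rw [sq]; exact h)) (orderOf_dvd_of_pow_eq_one h1))
    exact Nat.coprime_two_left.2 ((Fact.out : p.Prime).odd_of_ne_two hp2)
  set f : G → G ⧸ Z := fun d => π (t * d * t⁻¹) with hf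
  have hfm : ∀ a b, f (a * b) = f a * f b := fun a b => by
    simp only [hf]; rw [← map_mul]; congr 1; group
  have hff : ∀ d ∈ D, f (t * d * t⁻¹) = π d := fun d hd => by
    have h1 := (hmem _).2 (ht2.2 d hd)
    rw [map_mul, map_inv, mul_inv_eq_one] at h1
    simp only [hf]; rw [← h1]; congr 1; group
  intro u hu
  by_contra hne
  set a := u * (t * u * t⁻¹) with ha
  have haD : a ∈ D := mul_mem hu (hconjD u hu)
  have hfa : f a = π a := by
    rw [ha, hfm, hff u hu, map_mul]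
    exact hcomm _ (hconjD u hu) u hu
  obtain ⟨za, hzaZ, hza⟩ : ∃ z ∈ Z, t * a * t⁻¹ = a * z := by
    refine ⟨a⁻¹ * (t * a * t⁻¹), ?_, by group⟩
    rw [← hmem, map_mul, map_inv]
    show (π a)⁻¹ * f a = 1
    rw [hfa, inv_mul_cancel]
  -- every element of `D` is fixed modulo `⟨x⟩`
  refine ht ⟨htN, fun v hv => ?_⟩
  set b := v * (t * v * t⁻¹)⁻¹ with hb
  have hbD : b ∈ D := mul_mem hv (inv_mem (hconjD v hv))
  have hfb : f b = (π b)⁻¹ := by
    have h1 : f ((t * v * t⁻¹)⁻¹) = (π v)⁻¹ := by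
      apply eq_inv_of_mul_eq_one_right
      rw [← hff v hv, ← hfm, mul_inv_cancel]
      simp [hf]
    rw [hb, hfm, h1, map_mul, map_inv, mul_inv_rev, inv_inv]
  obtain ⟨zb, hzbZ, hzb⟩ : ∃ z ∈ Z, t * b * t⁻¹ = b⁻¹ * z := by
    refine ⟨b * (t * b * t⁻¹), ?_, by group⟩
    rw [← hmem, map_mul]
    show π b * f b = 1
    rw [hfb, mul_inv_cancel]
  have hcb : a * b = b * a := by
    rw [← commutatorElement_eq_one_iff_mul_comm]
    set c := ⁅a, b⁆ with hcdef
    have hcZ : c ∈ Z := hcom a haD b hbD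
    have h1 : t * c * t⁻¹ = c := fixes_zpowers hxc t c hcZ
    have h2 : t * c * t⁻¹ = ⁅t * a * t⁻¹, t * b * t⁻¹⁆ := by
      rw [hcdef]; simp only [commutatorElement_def]; group
    have h4 : ⁅a * za, b⁻¹ * zb⁆ = ⁅a, b⁻¹⁆ := by
      simp only [commutatorElement_def, mul_inv_rev]
      calc a * za * (b⁻¹ * zb) * (za⁻¹ * a⁻¹) * (zb⁻¹ * b⁻¹⁻¹)
          = a * (za * (b⁻¹ * zb)) * za⁻¹ * (a⁻¹ * zb⁻¹) * b⁻¹⁻¹ := by group
        _ = a * b⁻¹ * (zb * (a⁻¹ * zb⁻¹)) * b⁻¹⁻¹ := by
            rw [← hcent za hzaZ (b⁻¹ * zb)]; group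
        _ = a * b⁻¹ * a⁻¹ * b⁻¹⁻¹ := by
            rw [← hcent zb hzbZ (a⁻¹ * zb⁻¹)]; group
    have h3 : ⁅a, b⁻¹⁆ = c⁻¹ := by
      have : ⁅a, b⁻¹⁆ = b⁻¹ * c⁻¹ * b := by rw [hcdef]; simp only [commutatorElement_def]; group
      rw [this, hcent _ (inv_mem hcZ) b⁻¹, inv_mul_cancel_right]
    rw [hza, hzb, h4, h3, h1] at h2
    have hc2 : c ^ 2 = 1 := by rw [sq]; nth_rewrite 1 [h2]; exact inv_mul_cancel c
    have hcp : c ^ p = 1 := by
      obtain ⟨i, hi⟩ := mem_zpowers_iff.1 hcZ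
      rw [← hi, ← zpow_natCast, ← zpow_mul, mul_comm, zpow_mul, zpow_natCast, ← hx, pow_orderOf_eq_one,
        one_zpow]
    exact orderOf_eq_one_iff.1 (Nat.eq_one_of_dvd_coprimes
      (Nat.coprime_two_left.2 ((Fact.out : p.Prime).odd_of_ne_two hp2))
      (orderOf_dvd_of_pow_eq_one hc2) (orderOf_dvd_of_pow_eq_one hcp))
  have hbA := hpair a haD hne b hbD hcb
  have hfix : f b = π b := by
    let K : Subgroup G :=
      ((π.comp (MulAut.conj t).toMonoidHom).eqLocus π)
    have hK : zpowers a ⊔ Z ≤ K := by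
      refine sup_le (zpowers_le.2 hfa) fun z hz => ?_
      show π (t * z * t⁻¹) = π z
      rw [fixes_zpowers hxc t z hz]
    exact hK hbA
  have hb1 : π b = 1 := hodd b hbD (by
    conv_lhs => arg 2; rw [← hfix, hfb]
    exact mul_inv_cancel _)
  rw [hb, map_mul, map_inv, mul_inv_eq_one] at hb1
  rw [← hmem, map_mul, map_inv, ← hb1, mul_inv_cancel]

/-- A `p`-element fixing two different maximal subgroups of `D / ⟨x⟩` acts trivially on it. -/
theorem mem_actKer_of_two {x : G} (hx : orderOf x = p) (hxc : x ∈ center G) {D E1 E2 R : Subgroup G}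
    (hD : E1 ⊔ E2 = D) (h1 : Nat.card E1 ≤ p ^ 2) (h2 : Nat.card E2 ≤ p ^ 2) (hx1 : x ∈ E1) (hx2 : x ∈ E2)
    (hR : IsPGroup p R) (hDR : D ≤ R) {r : G} (hr : r ∈ R) (hrD : r ∈ normalizer (D : Set G))
    (hr1 : r ∈ normalizer (E1 : Set G)) (hr2 : r ∈ normalizer (E2 : Set G)) :
    r ∈ actKer D (zpowers x) (zpowers_le_center hxc) := by
  have key : ∀ E : Subgroup G, E ≤ D → Nat.card E ≤ p ^ 2 → x ∈ E → r ∈ normalizer (E : Set G) →
      ∀ e ∈ E, r * e * r⁻¹ * e⁻¹ ∈ zpowers x := by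
    intro E hED hE hxE hrE
    have h3 := le_actKer_of_card_le hx hxc (R := R ⊓ normalizer (E : Set G)) hE hxE
      (hR.to_le inf_le_left) (le_inf (hED.trans hDR) le_normalizer) inf_le_right
    exact (h3 ⟨hr, hrE⟩).2
  haveI hZn : (zpowers x).Normal := ⟨fun a ha g => by rw [fixes_zpowers hxc g a ha]; exact ha⟩
  set π := QuotientGroup.mk' (zpowers x) with hπ
  refine ⟨hrD, fun d hd => ?_⟩
  let K : Subgroup G := (π.comp (MulAut.conj r).toMonoidHom).eqLocus π
  have hK : D ≤ K := by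
    rw [← hD]
    refine sup_le ?_ ?_
    · intro e he
      have := (QuotientGroup.eq_one_iff _).2 (key E1 (hD ▸ le_sup_left) h1 hx1 hr1 e he)
      show π (r * e * r⁻¹) = π e
      exact eq_of_div_eq_one (by rw [div_eq_mul_inv, ← map_inv, ← map_mul]; exact this)
    · intro e he
      have := (QuotientGroup.eq_one_iff _).2 (key E2 (hD ▸ le_sup_right) h2 hx2 hr2 e he)
      show π (r * e * r⁻¹) = π e
      exact eq_of_div_eq_one (by rw [div_eq_mul_inv, ← map_inv, ← map_mul]; exact this)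
  have h := hK hd
  change π (r * d * r⁻¹) = π d at h
  rw [← QuotientGroup.eq_one_iff]
  show π (r * d * r⁻¹ * d⁻¹) = 1
  rw [map_mul, map_inv, h, mul_inv_cancel]

end CfsgLib.RankTwoIso
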