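import Cfsg.Agent.Lib.RankTwoIso.Local

/-!
The local step: all of `N(Q)` fuses only modulo `M`.
-/

set_option autoImplicit false
set_option linter.unusedSectionVars false
set_option linter.style.haveILetI false

namespace CfsgLib.RankTwoIso

open Subgroup
open scoped commutatorElement

variable {G : Type*} [Group G]

/-- Conjugate of a subgroup. -/
abbrev cj (g : G) (E : Subgroup G) : Subgroup G := E.map (MulAut.conj g).toMonoidHom

theorem cj_cj (g h : G) (E : Subgroup G) : cj g (cj h E) = cj (g * h) E := by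
  rw [cj, cj, Subgroup.map_map]
  congr 1
  ext y
  simp [mul_assoc]

theorem mem_cj {g y : G} {E : Subgroup G} : y ∈ cj g E ↔ g⁻¹ * y * g ∈ E := by
  rw [cj, mem_map_equiv, MulAut.conj_symm_apply]

theorem cj_eq_iff {g : G} {E : Subgroup G} : cj g E = E ↔ g ∈ normalizer (E : Set G) := by
  constructor
  · intro h
    rw [mem_normalizer_iff]
    intro y
    conv_rhs => rw [← h, mem_cj]
    simp [mul_assoc]
  · intro h
    ext y
    rw [mem_cj]
    have := mem_normalizer_iff.1 (inv_mem h) y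
    rw [inv_inv] at this
    exact this.symm

theorem mem_normalizer_inf {n : G} {A B : Subgroup G} (hA : n ∈ normalizer (A : Set G))
    (hB : n ∈ normalizer (B : Set G)) : n ∈ normalizer ((A ⊓ B : Subgroup G) : Set G) :=
  mem_normalizer_iff.2 fun y => and_congr (mem_normalizer_iff.1 hA y) (mem_normalizer_iff.1 hB y)

variable [Finite G] {p : ℕ} [Fact p.Prime]

theorem normalizer_good (hp2 : p ≠ 2) (hrank : Cfsg.PRankLE p 2 G) {x : G} (hx : orderOf x = p)
    (hxc : x ∈ center G) {Q R M : Subgroup G} (hQR : Q ≤ R) (hRN : R ≤ normalizer (Q : Set G))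
    (hR : IsPGroup p R) (hRS : ¬ p ∣ R.relIndex (normalizer (Q : Set G))) (hxQ : x ∈ Q)
    (hMcomm : ∀ a ∈ R, ∀ b ∈ R, ⁅a, b⁆ ∈ M) (hMpow : ∀ a ∈ R, a ^ p ∈ M)
    (hNR : ∀ g ∈ normalizer (Q : Set G), g ∈ normalizer (R : Set G) → Good M Q g) :
    ∀ n ∈ normalizer (Q : Set G), Good M Q n := by
  have hp := (Fact.out : p.Prime)
  have hQp : IsPGroup p Q := hR.to_le hQR
  set N := normalizer (Q : Set G) with hN
  set T := goodSub M Q with hTdef
  suffices hT : ∀ n ∈ N, n ∈ T from fun n hn => (hT n hn).2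
  have hCT : N ⊓ centralizer (Q : Set G) ≤ T := by
    rintro g ⟨hgN, hgC⟩
    refine ⟨hgN, fun y hy => ?_⟩
    have : y⁻¹ * (g⁻¹ * y * g) = 1 := by
      rw [mul_assoc g⁻¹, mem_centralizer_iff.1 hgC y hy]; group
    rw [this]; exact one_mem _
  have hRT : R ≤ T := fun r hr => ⟨hRN hr, fun y hy => by
    have := hMcomm _ (inv_mem (hQR hy)) _ (inv_mem hr)
    simpa [commutatorElement_def, mul_assoc] using this⟩
  have hNRT : ∀ g ∈ N, g ∈ normalizer (R : Set G) → g ∈ T := fun g h1 h2 => ⟨h1, hNR g h1 h2⟩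
  have crit : ∀ {W : Subgroup G}, R ≤ W → W ≤ N →
      (∀ w ∈ W, (orderOf w).Coprime p → ∀ q ∈ Q, w * q * w⁻¹ = q) →
      ∀ {n : G}, n ∈ N → n ∈ normalizer (W : Set G) → n ∈ T :=
    fun {_W} hRW hWN hW {_n} hn hnW => criterion le_rfl hR hRW hWN hRS hW hCT hRT hNRT hn hnW
  obtain ⟨D, hDQ, hxD, hND, hexp, hcl, hfaith⟩ := exists_faithful hp2 hx hxc hQp hxQ
  have hDR : D ≤ R := hDQ.trans hQR
  set Z := zpowers x with hZ
  have hZc := zpowers_le_center hxc
  haveI hZn : Z.Normal := ⟨fun a ha g => by rw [fixes_zpowers hxc g a ha]; exact ha⟩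
  have hZcard : Nat.card Z = p := card_zpowers_eq hx
  rcases small_shape hrank hx hxc hxD hexp hcl with hsmall | ⟨hD3, hcom, hpair⟩
  · -- `D` of order at most `p ^ 2`
    intro n hn
    refine crit (W := N ⊓ actKer D Z hZc) ?_ inf_le_left (fun w hw hwp => ?_) hn
      (mem_normalizer_inf (le_normalizer hn) (actKer_normalized hZc (hND hn)))
    · exact le_inf hRN (le_actKer_of_card_le hx hxc hsmall hxD hR hDR (hRN.trans hND))
    · exact hfaith w hw.1 hwp (fixes_of_mem_actKer hx hxc hwp hw.2)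
  -- `D` extraspecial of order `p ^ 3`
  have hDne : D.subgroupOf R ≠ ⊥ := fun h => by
    have := congrArg (fun H : Subgroup R => Nat.card H) h
    rw [Nat.card_congr (subgroupOfEquivOfLe hDR).toEquiv, hD3, card_bot] at this
    exact absurd this (Nat.one_lt_pow (by omega) hp.one_lt).ne'
  haveI : (D.subgroupOf R).Normal := normal_subgroupOf_of_le_normalizer (hRN.trans hND)
  obtain ⟨M0, hM0n, hM0D, hM0c, -, -⟩ := CfsgLib.Transfer.exists_chief_below hR (D.subgroupOf R) hDne
  set E0 := M0.map R.subtype with hE0def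
  have hE0D : E0 ≤ D := by
    rw [hE0def, map_le_iff_le_comap]; exact hM0D
  have hE0c : Nat.card E0 = p ^ 2 := by
    rw [hE0def, card_map_of_injective R.subtype_injective]
    rw [Nat.card_congr (subgroupOfEquivOfLe hDR).toEquiv, hD3, pow_succ'] at hM0c
    exact (Nat.eq_of_mul_eq_mul_left hp.pos hM0c).symm
  have hRE0 : R ≤ normalizer (E0 : Set G) := by
    intro r hr
    rw [← cj_eq_iff]
    refine eq_of_le_of_card_ge ?_ (card_map_of_injective (MulEquiv.injective _)).ge
    rintro _ ⟨_, ⟨m, hm, rfl⟩, rfl⟩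
    exact ⟨_, hM0n.conj_mem m hm ⟨r, hr⟩, by simp⟩
  -- `x ∈ E0`
  have hxE0 : x ∈ E0 := by
    by_contra hxn
    have hE0comm : IsMulCommutative E0 :=
      IsPGroup.isMulCommutative_of_card_eq_prime_sq hE0c
    have hle : E0 ⊔ Z ≤ D := sup_le hE0D (zpowers_le.2 hxD)
    have hlt : Nat.card E0 < Nat.card (E0 ⊔ Z : Subgroup G) :=
      lt_of_le_of_ne (card_le_of_le le_sup_left) fun h =>
        hxn ((eq_of_le_of_card_ge le_sup_left h.ge).ge (mem_sup_right (mem_zpowers x)))
    have hDcomm : IsMulCommutative (E0 ⊔ Z : Subgroup G) := by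
      rw [← closure_eq E0, ← closure_eq Z, ← Subgroup.closure_union]
      refine isMulCommutative_closure ?_
      rintro u (hu | hu) v (hv | hv)
      · exact congrArg Subtype.val (IsMulCommutative.is_comm.comm (⟨u, hu⟩ : E0) ⟨v, hv⟩)
      · exact mem_center_iff.1 (hZc hv) u
      · exact (mem_center_iff.1 (hZc hu) v).symm
      · exact mem_center_iff.1 (hZc hv) u
    have := hrank _ hDcomm fun u hu => hexp u (hle hu)
    rw [hE0c] at hlt
    exact absurd hlt this.not_gt
  have hZE0 : Z ≤ E0 := zpowers_le.2 hxE0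
  obtain ⟨a, haE, haZ⟩ := SetLike.exists_of_lt (lt_of_le_of_ne hZE0 fun h => by
    rw [← h, hZcard] at hE0c
    exact absurd hE0c (by nlinarith [hp.two_le]))
  have haD := hE0D haE
  have hE0eq : zpowers a ⊔ Z = E0 :=
    eq_of_le_of_card_ge (sup_le (zpowers_le.2 haE) hZE0) (by rw [(hpair a haD haZ).1, hE0c])
  have hCa : ∀ e ∈ D, a * e = e * a → e ∈ E0 := fun e he h => hE0eq ▸ (hpair a haD haZ).2 e he h
  by_cases hinv : ∀ n ∈ N, n ∈ normalizer (E0 : Set G)
  · -- an invariant subgroup of order `p ^ 2`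
    intro n hn
    refine crit (W := N ⊓ actKer E0 Z hZc) ?_ inf_le_left (fun w hw hwp => ?_) hn
      (mem_normalizer_inf (le_normalizer hn) (actKer_normalized hZc (hinv n hn)))
    · exact le_inf hRN (le_actKer_of_card_le hx hxc hE0c.le hxE0 hR (hE0D.trans hDR) hRE0)
    · have hfE : ∀ e ∈ E0, w * e * w⁻¹ = e := fixes_of_mem_actKer hx hxc hwp hw.2
      refine hfaith w hw.1 hwp (fixes_of_stabilizes hwp (hR.to_le (hE0D.trans hDR)) hfE fun d hd => ?_)
      have hd' : w * d * w⁻¹ ∈ D := (mem_normalizer_iff.1 (hND hw.1) d).1 hd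
      refine hCa _ (mul_mem hd' (inv_mem hd)) ?_
      have hc : ⁅a, d⁆ ∈ Z := hcom a haD d hd
      have h1 : ⁅a, w * d * w⁻¹⁆ = ⁅a, d⁆ := by
        conv_lhs => arg 1; rw [← hfE a haE]
        rw [show ⁅w * a * w⁻¹, w * d * w⁻¹⁆ = w * ⁅a, d⁆ * w⁻¹ by
          simp only [commutatorElement_def]; group]
        exact fixes_zpowers hxc w _ hc
      have h2 : (w * d * w⁻¹) * a⁻¹ * (w * d * w⁻¹)⁻¹ = d * a⁻¹ * d⁻¹ := by
        have := congrArg (fun u => a⁻¹ * u) h1
        simpa [commutatorElement_def, mul_assoc] using this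
      have h3 : (d⁻¹ * (w * d * w⁻¹)) * a⁻¹ = a⁻¹ * (d⁻¹ * (w * d * w⁻¹)) := by
        calc (d⁻¹ * (w * d * w⁻¹)) * a⁻¹ = d⁻¹ * ((w * d * w⁻¹) * a⁻¹ * (w * d * w⁻¹)⁻¹) * (w * d * w⁻¹) := by
              group
          _ = a⁻¹ * (d⁻¹ * (w * d * w⁻¹)) := by rw [h2]; group
      have hyE : d⁻¹ * (w * d * w⁻¹) ∈ E0 := hCa _ (mul_mem (inv_mem hd) hd')
        (Commute.inv_left_iff.1 (show Commute a⁻¹ _ from h3.symm)).eq
      have hmem : w * d * w⁻¹ * d⁻¹ ∈ E0 := by
        have hdE : d ∈ normalizer (E0 : Set G) := hRE0 (hDR hd)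
        have := (mem_normalizer_iff.1 hdE _).1 hyE
        simpa [mul_assoc] using this
      haveI := IsPGroup.isMulCommutative_of_card_eq_prime_sq hE0c
      exact congrArg Subtype.val (IsMulCommutative.is_comm.comm (⟨a, haE⟩ : E0) ⟨_, hmem⟩)
  -- no invariant subgroup
  push Not at hinv
  obtain ⟨n1, hn1, hn1E⟩ := hinv
  set W0 := N ⊓ actKer D Z hZc with hW0
  have hW0norm : ∀ n ∈ N, n ∈ normalizer (W0 : Set G) := fun n hn =>
    mem_normalizer_inf (le_normalizer hn) (actKer_normalized hZc (hND hn))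
  have hW0fix : ∀ w ∈ W0, (orderOf w).Coprime p → ∀ q ∈ Q, w * q * w⁻¹ = q := fun w hw hwp =>
    hfaith w hw.1 hwp (fixes_of_mem_actKer hx hxc hwp hw.2)
  by_cases hRW0 : R ≤ W0
  · exact fun n hn => crit hRW0 inf_le_left hW0fix hn (hW0norm n hn)
  obtain ⟨r, hr, hrW0⟩ := SetLike.not_le_iff_exists.1 hRW0
  -- conjugates of `E0`
  have hX : ∀ n ∈ N, cj n E0 ≤ D ∧ x ∈ cj n E0 ∧ Nat.card (cj n E0) = p ^ 2 := by
    intro n hn
    refine ⟨?_, ?_, by rw [← hE0c]; exact card_map_of_injective (MulEquiv.injective _)⟩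
    · rintro _ ⟨e, he, rfl⟩
      exact (mem_normalizer_iff.1 (hND hn) e).1 (hE0D he)
    · rw [mem_cj, mem_center_iff.1 hxc n⁻¹, inv_mul_cancel_right]
      exact hxE0
  have hsup : ∀ E : Subgroup G, E ≤ D → Nat.card E = p ^ 2 → E ≠ E0 → E0 ⊔ E = D := by
    intro E hED hEc hne
    refine eq_of_le_of_card_ge (sup_le hE0D hED) ?_
    have hlt : Nat.card E0 < Nat.card (E0 ⊔ E : Subgroup G) :=
      lt_of_le_of_ne (card_le_of_le le_sup_left) fun h => by
        have h1 := eq_of_le_of_card_ge le_sup_left h.ge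
        exact hne (eq_of_le_of_card_ge (le_sup_right.trans h1.ge) (hE0c.le.trans hEc.ge))
    obtain ⟨k, hk⟩ := IsPGroup.iff_card.1 (hR.to_le ((sup_le hE0D hED).trans hDR))
    rw [hE0c, hk] at hlt
    rw [hD3, hk]
    exact Nat.pow_le_pow_right hp.pos ((Nat.pow_lt_pow_iff_right hp.one_lt).1 hlt)
  have hfix2 : ∀ n ∈ N, cj n E0 ≠ E0 → ∀ s ∈ R, s ∈ normalizer (cj n E0 : Set G) → s ∈ W0 := by
    intro n hn hne s hs hsn
    obtain ⟨h1, h2, h3⟩ := hX n hn
    exact ⟨hRN hs, mem_actKer_of_two hx hxc (hsup _ h1 h3 hne) hE0c.le h3.le hxE0 h2 hR hDR hs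
      (hND (hRN hs)) (hRE0 hs) hsn⟩
  set E1 := cj n1 E0 with hE1
  have hE1ne : E1 ≠ E0 := fun h => hn1E (cj_eq_iff.1 h)
  -- `Q` acts trivially on `D / ⟨x⟩`
  have hQW0 : Q ≤ W0 := by
    intro q hq
    refine hfix2 n1 hn1 hE1ne q (hQR hq) (cj_eq_iff.1 ?_)
    have hq' : n1⁻¹ * q * n1 ∈ Q := by
      have := (mem_normalizer_iff.1 (inv_mem hn1) q).1 hq
      rwa [inv_inv] at this
    have : q * n1 = n1 * (n1⁻¹ * q * n1) := by group
    rw [cj_cj, this, ← cj_cj, cj_eq_iff.2 (hRE0 (hQR hq'))]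
  -- the orbit has `p + 1` members
  set O : Set (Subgroup G) := (fun n => cj n E0) '' (N : Set G) with hO
  have hOcard : O.ncard = p + 1 := by
    obtain ⟨b, hbD, hbE⟩ := SetLike.exists_of_lt (lt_of_le_of_ne hE0D fun h => by
      rw [h, hD3] at hE0c
      exact absurd (Nat.pow_right_injective hp.two_le hE0c) (by omega))
    refine le_antisymm ?_ ?_
    · set S : Set (Subgroup G) :=
        insert E0 ((fun i => zpowers (b * a ^ i) ⊔ Z) '' ((Finset.range p : Finset ℕ) : Set ℕ))
      have hsub : O ⊆ S := by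
        rintro _ ⟨n, hn, rfl⟩
        by_cases hne : cj n E0 = E0
        · exact Or.inl hne
        refine Or.inr ?_
        obtain ⟨h1, h2, h3⟩ := hX n hn
        obtain ⟨e, he, he0⟩ := SetLike.not_le_iff_exists.1 (fun h => hne
          (eq_of_le_of_card_ge h (hE0c.le.trans h3.ge)) : ¬ cj n E0 ≤ E0)
        haveI : (E0.subgroupOf D).Normal := normal_subgroupOf_of_le_normalizer (hDR.trans hRE0)
        have hq : Nat.card (D ⧸ E0.subgroupOf D) = p := by
          have h4 := (E0.subgroupOf D).card_mul_index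
          rw [Nat.card_congr (subgroupOfEquivOfLe hE0D).toEquiv, hE0c, hD3, index_eq_card] at h4
          exact Nat.eq_of_mul_eq_mul_left (pow_pos hp.pos 2) (by rw [h4]; ring)
        haveI : Fact p.Prime := ⟨hp⟩
        have hge : (QuotientGroup.mk (⟨e, h1 he⟩ : D) : D ⧸ E0.subgroupOf D) ≠ 1 := fun h =>
          he0 (mem_subgroupOf.1 ((QuotientGroup.eq_one_iff _).1 h))
        obtain ⟨k, hk⟩ := mem_zpowers_iff.1 (mem_zpowers_of_prime_card hq hge
          (g' := QuotientGroup.mk (⟨b, hbD⟩ : D)))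
        rw [← QuotientGroup.mk_zpow, eq_comm, QuotientGroup.eq, mem_subgroupOf] at hk
        simp only [Subgroup.coe_mul, InvMemClass.coe_inv, SubgroupClass.coe_zpow] at hk
        rw [← hE0eq, ← SetLike.mem_coe, mul_normal] at hk
        obtain ⟨u, ⟨i, rfl⟩, z, hz, hiz⟩ := hk
        have hai : b * a ^ i ∈ cj n E0 := by
          have hze : e ^ k * z⁻¹ = b * a ^ i := by
            rw [show e ^ k = b * (b⁻¹ * e ^ k) by group, ← hiz]; group
          rw [← hze]
          exact mul_mem (zpow_mem he k) (inv_mem ((zpowers_le.2 h2) hz))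
        have hper : a ^ i = a ^ (i % (p : ℤ)).toNat := by
          rw [← zpow_natCast a, Int.toNat_of_nonneg (Int.emod_nonneg _ (by exact_mod_cast hp.ne_zero))]
          conv_lhs => rw [← Int.mul_ediv_add_emod i p, zpow_add, zpow_mul, zpow_natCast,
            hexp a haD, one_zpow, one_mul]
        refine ⟨(i % (p : ℤ)).toNat, ?_, ?_⟩
        · simp only [Finset.coe_range, Set.mem_Iio]
          have := Int.emod_lt_of_pos i (show (0 : ℤ) < p by exact_mod_cast hp.pos)
          have := hp.pos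
          omega
        show zpowers (b * a ^ (i % (p : ℤ)).toNat) ⊔ Z = cj n E0
        rw [← hper]
        have hnz : b * a ^ i ∉ Z := fun h => hbE (by
          have := mul_mem (hZE0 h) (inv_mem (zpow_mem haE i))
          rwa [mul_inv_cancel_right] at this)
        exact eq_of_le_of_card_ge (sup_le (zpowers_le.2 hai) (zpowers_le.2 h2))
          (by rw [(hpair _ (h1 hai) hnz).1, h3])
      refine (Set.ncard_le_ncard hsub).trans ((Set.ncard_insert_le _ _).trans ?_)
      refine Nat.succ_le_succ (le_trans Set.ncard_image_le ?_)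
      rw [Set.ncard_coe_finset, Finset.card_range]
    · set S : Set (Subgroup G) :=
        insert E0 ((fun i => cj (r ^ i) E1) '' ((Finset.range p : Finset ℕ) : Set ℕ))
      have hinj : Set.InjOn (fun i => cj (r ^ i) E1) ((Finset.range p : Finset ℕ) : Set ℕ) := by
        intro i hi j hj hij
        by_contra hne
        wlog hlt : i < j generalizing i j
        · exact this hj hi hij.symm (Ne.symm hne) (by omega)
        simp only [Finset.coe_range, Set.mem_Iio] at hi hj
        have h1 : cj (r ^ (j - i)) E1 = E1 := by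
          have h2 := congrArg (cj (r ^ i)⁻¹) hij
          simp only [cj_cj, inv_mul_cancel] at h2
          rw [show (r ^ i)⁻¹ * r ^ j = r ^ (j - i) from
            inv_mul_eq_of_eq_mul (by rw [← pow_add, Nat.add_sub_cancel' hlt.le])] at h2
          rw [← h2, cj_eq_iff]
          exact one_mem _
        have h3 := hfix2 n1 hn1 hE1ne _ (pow_mem hr _) (cj_eq_iff.1 h1)
        obtain ⟨k, hk⟩ := hR ⟨r, hr⟩
        have hk' : r ^ p ^ k = 1 := by simpa using congrArg Subtype.val hk
        obtain ⟨l, -, hl⟩ := (Nat.dvd_prime_pow hp).1 (orderOf_dvd_of_pow_eq_one hk')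
        obtain ⟨m, hm⟩ := exists_pow_eq_self_of_coprime (x := r) (n := j - i) (by
          rw [hl]
          exact (Nat.coprime_comm.1 (hp.coprime_iff_not_dvd.2 fun h =>
            absurd (Nat.le_of_dvd (by omega) h) (by omega))).pow_right l)
        exact hrW0 (hm ▸ pow_mem h3 m)
      have hsub : S ⊆ O := by
        rintro E (rfl | ⟨i, -, rfl⟩)
        · exact ⟨1, one_mem _, cj_eq_iff.2 (one_mem _)⟩
        · exact ⟨r ^ i * n1, mul_mem (pow_mem (hRN hr) i) hn1, (cj_cj _ _ _).symm⟩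
      refine le_trans (le_of_eq ?_) (Set.ncard_le_ncard hsub)
      rw [Set.ncard_insert_of_notMem, Set.InjOn.ncard_image hinj, Set.ncard_coe_finset, Finset.card_range]
      rintro ⟨i, -, hi⟩
      apply hE1ne
      have h1 := congrArg (cj (r ^ i)⁻¹) hi
      simp only [cj_cj, inv_mul_cancel, cj_eq_iff.2 (one_mem _),
        cj_eq_iff.2 (inv_mem (pow_mem (hRE0 hr) i))] at h1
      exact h1
  -- an involution modulo `W0`
  haveI hW0n : (W0.subgroupOf N).Normal :=
    normal_subgroupOf_of_le_normalizer fun n hn => hW0norm n hn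
  have h2dvd : 2 ∣ (W0.subgroupOf N).index := by
    set H := (normalizer (E0 : Set G)).subgroupOf N
    have hle : W0.subgroupOf N ≤ H := by
      intro w hw
      rw [mem_subgroupOf] at hw ⊢
      rw [← cj_eq_iff]
      refine eq_of_le_of_card_ge ?_ (card_map_of_injective (MulEquiv.injective _)).ge
      rintro _ ⟨e, he, rfl⟩
      have h1 := hZE0 (hw.2.2 e (hE0D he))
      have := mul_mem h1 he
      simpa [mul_assoc] using this
    refine dvd_trans ?_ (index_dvd_of_le hle)
    have hidx : H.index = O.ncard := by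
      rw [index]
      have heq : O = Set.range (fun c : N ⧸ H => Quotient.liftOn' c (fun n : N => cj (n : G) E0)
          (fun u v huv => by
            rw [QuotientGroup.leftRel_apply, mem_subgroupOf] at huv
            have := cj_eq_iff.2 huv
            simp only [Subgroup.coe_mul, InvMemClass.coe_inv, ← cj_cj] at this
            conv_lhs => rw [← this, cj_cj, mul_inv_cancel]
            rw [cj_cj, one_mul])) := by
        ext E
        constructor
        · rintro ⟨n, hn, rfl⟩; exact ⟨QuotientGroup.mk ⟨n, hn⟩, rfl⟩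
        · rintro ⟨c, rfl⟩
          induction c using QuotientGroup.induction_on with
          | _ n => exact ⟨n, n.2, rfl⟩
      rw [heq, Set.ncard_range_of_injective]
      intro c d
      induction c using QuotientGroup.induction_on with
      | _ u =>
      induction d using QuotientGroup.induction_on with
      | _ v =>
        intro h
        rw [QuotientGroup.eq, mem_subgroupOf]
        simp only [Subgroup.coe_mul, InvMemClass.coe_inv]
        rw [← cj_eq_iff, ← cj_cj]
        have h' : cj (u : G) E0 = cj (v : G) E0 := h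
        rw [← h', cj_cj, inv_mul_cancel, cj_eq_iff]
        exact one_mem _
    rw [hidx, hOcard]
    have := hp.odd_of_ne_two hp2
    rw [Nat.odd_iff] at this
    omega
  haveI : Fact (Nat.Prime 2) := ⟨Nat.prime_two⟩
  obtain ⟨tb, htb⟩ := exists_prime_orderOf_dvd_card' (G := N ⧸ W0.subgroupOf N) 2
    (by rwa [← index_eq_card])
  obtain ⟨⟨t, htN⟩, rfl⟩ := QuotientGroup.mk_surjective tb
  have htW0 : t ∉ W0 := fun h => by
    have h1 : (QuotientGroup.mk (⟨t, htN⟩ : N) : N ⧸ W0.subgroupOf N) = 1 :=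
      (QuotientGroup.eq_one_iff _).2 h
    rw [h1, orderOf_one] at htb
    omega
  have ht2 : t * t ∈ W0 := by
    have h1 := pow_orderOf_eq_one (QuotientGroup.mk (⟨t, htN⟩ : N) : N ⧸ W0.subgroupOf N)
    rw [htb, ← QuotientGroup.mk_pow, QuotientGroup.eq_one_iff, mem_subgroupOf] at h1
    simpa [sq] using h1
  have hinvt := inverts_of_sq hp2 hx hxc hexp hcom (fun u hu hux => (hpair u hu hux).2) (hND htN)
    (fun h => htW0 ⟨htN, h⟩) ht2.2
  have hinvt' : ∀ d ∈ D, d * (t⁻¹ * d * t) ∈ Z := by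
    intro d hd
    have h1 : t⁻¹ * d * t ∈ D := by
      have := (mem_normalizer_iff.1 (inv_mem (hND htN)) d).1 hd
      rwa [inv_inv] at this
    have h2 := hinvt _ h1
    rw [show t⁻¹ * d * t * (t * (t⁻¹ * d * t) * t⁻¹) = t⁻¹ * d * t * d by group] at h2
    have := hZn.conj_mem _ h2 d
    simpa [mul_assoc] using this
  -- `t` is good
  have hRW0le : R ≤ normalizer (W0 : Set G) := fun s hs => hW0norm s (hRN hs)
  have htT : t ∈ T := by
    refine crit (W := W0 ⊔ R) le_sup_right (sup_le inf_le_left hRN) (fun w hw hwp => hW0fix w ?_ hwp)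
      htN ?_
    · rw [← SetLike.mem_coe, coe_mul_of_right_le_normalizer_left W0 R hRW0le] at hw
      obtain ⟨u, hu, s, hs, rfl⟩ := hw
      obtain ⟨k, hk⟩ := hR ⟨s, hs⟩
      have hk' : s ^ p ^ k = 1 := by simpa using congrArg Subtype.val hk
      refine coprime_pow_mem hwp (k := k) ?_
      have h1 : ((QuotientGroup.mk (⟨u * s, mul_mem hu.1 (hRN hs)⟩ : N)) : N ⧸ W0.subgroupOf N) =
          QuotientGroup.mk (⟨s, hRN hs⟩ : N) := by
        rw [QuotientGroup.eq, mem_subgroupOf]
        simp only [Subgroup.coe_mul, InvMemClass.coe_inv]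
        have := (mem_normalizer_iff.1 (inv_mem (hRW0le hs)) _).1 (inv_mem hu)
        simpa [mul_assoc] using this
      have h2 := congrArg (· ^ p ^ k) h1
      simp only [← QuotientGroup.mk_pow] at h2
      rw [(QuotientGroup.eq_one_iff ((⟨s, hRN hs⟩ : N) ^ p ^ k)).2 (by simp [mem_subgroupOf, hk', one_mem]),
        QuotientGroup.eq_one_iff, mem_subgroupOf] at h2
      simpa using h2
    · have key : ∀ s ∈ R, t * s * t⁻¹ ∈ W0 ⊔ R := by
        intro s hs
        have h1 : t * s * t⁻¹ * s⁻¹ ∈ W0 := by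
          refine ⟨(mul_mem (mul_mem (mul_mem htN (hRN hs)) (inv_mem htN)) (inv_mem (hRN hs)) : _ ∈ N), ?_⟩
          refine ⟨mul_mem (mul_mem (mul_mem (hND htN) (hND (hRN hs))) (inv_mem (hND htN)))
            (inv_mem (hND (hRN hs))), fun d hd => ?_⟩
          set e := s⁻¹ * d * s with he
          have heD : e ∈ D := by
            have := (mem_normalizer_iff.1 (inv_mem (hND (hRN hs))) d).1 hd
            rwa [inv_inv] at this
          obtain ⟨z1, hz1, e1⟩ : ∃ z ∈ Z, t⁻¹ * e * t = z * e⁻¹ :=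
            ⟨t⁻¹ * e * t * e, by
              have := hZn.conj_mem _ (hinvt' e heD) e⁻¹
              simpa [mul_assoc] using this, by group⟩
          obtain ⟨z2, hz2, e2⟩ : ∃ z ∈ Z, t * d⁻¹ * t⁻¹ = d * z :=
            ⟨d⁻¹ * (t * d⁻¹ * t⁻¹), hinvt _ (inv_mem hd), by group⟩
          have hc1 : ∀ g : G, g * z1 = z1 * g := mem_center_iff.1 (hZc hz1)
          have h3 : t * s * t⁻¹ * s⁻¹ * d * (t * s * t⁻¹ * s⁻¹)⁻¹ = z1 * (d * z2) := by
            calc t * s * t⁻¹ * s⁻¹ * d * (t * s * t⁻¹ * s⁻¹)⁻¹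
                = t * s * (t⁻¹ * e * t) * s⁻¹ * t⁻¹ := by rw [he]; group
              _ = (t * s * z1) * e⁻¹ * s⁻¹ * t⁻¹ := by rw [e1]; group
              _ = z1 * (t * d⁻¹ * t⁻¹) := by rw [hc1 (t * s), he]; group
              _ = z1 * (d * z2) := by rw [e2]
          rw [h3, mul_assoc z1, mem_center_iff.1 (hZc hz2) d, mul_inv_cancel_right]
          exact mul_mem hz1 hz2
        have := mul_mem (mem_sup_left (T := R) h1) (mem_sup_right (S := W0) hs)
        rwa [inv_mul_cancel_right] at this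
      rw [← cj_eq_iff]
      refine eq_of_le_of_card_ge ?_ (card_map_of_injective (MulEquiv.injective _)).ge
      rw [cj, Subgroup.map_sup]
      refine sup_le ?_ ?_
      · exact le_trans (le_of_eq (cj_eq_iff.2 (hW0norm t htN))) le_sup_left
      · rintro _ ⟨s, hs, rfl⟩; exact key s hs
  -- `D ≤ M`
  obtain ⟨b, hbD, hbE⟩ := SetLike.exists_of_lt (lt_of_le_of_ne hE0D fun h => by
    rw [h, hD3] at hE0c
    exact absurd (Nat.pow_right_injective hp.two_le hE0c) (by omega))
  have hc1 : ⁅a, b⁆ ≠ 1 := fun h => hbE (hCa b hbD (commutatorElement_eq_one_iff_mul_comm.1 h))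
  have hcZ : zpowers ⁅a, b⁆ = Z := by
    refine eq_of_le_of_card_ge (zpowers_le.2 (hcom a haD b hbD)) ?_
    rw [hZcard, Nat.card_zpowers, orderOf_eq_prime (p := p) ?_ hc1]
    obtain ⟨i, hi⟩ := mem_zpowers_iff.1 (hcom a haD b hbD)
    rw [← hi, ← zpow_natCast, ← zpow_mul, mul_comm, zpow_mul, zpow_natCast, ← hx, pow_orderOf_eq_one,
      one_zpow]
  have hZM : Z ≤ M := hcZ ▸ zpowers_le.2 (hMcomm a (hDR haD) b (hDR hbD))
  have hDM : ∀ d ∈ D, d ∈ M := by
    intro d hd
    have h1 := htT.2 d (hDQ hd)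
    have h2 := hZM (hinvt' d hd)
    obtain ⟨z, hz, hzd⟩ : ∃ z ∈ Z, t⁻¹ * d * t = d⁻¹ * z := ⟨_, hinvt' d hd, by group⟩
    rw [hzd, ← mul_assoc] at h1
    have h3 := mul_mem h1 (inv_mem (hZM hz))
    rw [mul_inv_cancel_right] at h3
    obtain ⟨m, hm⟩ := exists_pow_eq_self_of_coprime (x := d) (n := 2) (by
      rcases (Nat.dvd_prime hp).1 (orderOf_dvd_of_pow_eq_one (hexp d hd)) with h | h <;> rw [h]
      · exact Nat.coprime_one_right 2
      · exact Nat.coprime_two_left.2 (hp.odd_of_ne_two hp2))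
    rw [← hm]
    refine pow_mem ?_ m
    have := inv_mem h3
    simpa [sq, mul_inv_rev] using this
  -- the centralizer of `D` in `Q` is cyclic
  set C := Q ⊓ centralizer (D : Set G) with hC
  have hCp : IsPGroup p C := hQp.to_le inf_le_left
  haveI hCcyc : IsCyclic C := by
    refine CfsgLib.Transfer.isCyclic_of_card_omega_one_le hp2 hCp ?_
    refine (card_le_of_le ((closure_le (Z.subgroupOf C)).2 ?_)).trans ?_
    · intro y hy
      by_contra hyZ
      have hyp : (y : G) ^ p = 1 := by simpa using congrArg Subtype.val (show y ^ p = 1 from hy)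
      have hyC : (y : G) ∈ centralizer (D : Set G) := y.2.2
      have hcommY : IsMulCommutative (closure ((E0 : Set G) ∪ {(y : G)})) := by
        refine isMulCommutative_closure ?_
        haveI := IsPGroup.isMulCommutative_of_card_eq_prime_sq hE0c
        rintro u (hu | rfl) v (hv | rfl)
        · exact congrArg Subtype.val (IsMulCommutative.is_comm.comm (⟨u, hu⟩ : E0) ⟨v, hv⟩)
        · exact mem_centralizer_iff.1 hyC u (hE0D hu)
        · exact (mem_centralizer_iff.1 hyC v (hE0D hv)).symm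
        · rfl
      have h1 := hrank _ hcommY fun u hu => by
        induction hu using closure_induction with
        | mem u hu =>
          rcases hu with hu | rfl
          · exact hexp u (hE0D hu)
          · exact hyp
        | one => exact one_pow p
        | mul u v hu hv h1 h2 =>
          rw [(show Commute u v from congrArg Subtype.val
            (IsMulCommutative.is_comm.comm (⟨u, hu⟩ : closure ((E0 : Set G) ∪ {(y : G)})) ⟨v, hv⟩)).mul_pow,
            h1, h2, one_mul]
        | inv u _ h => rw [inv_pow, h, inv_one]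
      have hle : E0 ≤ closure ((E0 : Set G) ∪ {(y : G)}) := fun u hu => subset_closure (Or.inl hu)
      have hyE : (y : G) ∈ E0 := (eq_of_le_of_card_ge hle (h1.trans hE0c.ge)).ge
        (subset_closure (Or.inr rfl))
      apply hyZ
      show (y : G) ∈ Z
      by_contra hyZ'
      have hb' := (hpair _ (hE0D hyE) hyZ').2 b hbD (mem_centralizer_iff.1 hyC b hbD).symm
      exact hbE ((sup_le (zpowers_le.2 hyE) hZE0) hb')
    · exact (Nat.card_congr (subgroupOfEquivOfLe (show Z ≤ C from zpowers_le.2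
        ⟨hxQ, center_le_centralizer _ hxc⟩)).toEquiv).trans_le hZcard.le
  obtain ⟨⟨z, hzC⟩, hzgen⟩ := IsCyclic.exists_generator (α := C)
  have hgen : ∀ y ∈ C, ∃ i : ℤ, y = z ^ i := fun y hy => by
    obtain ⟨i, hi⟩ := mem_zpowers_iff.1 (hzgen ⟨y, hy⟩)
    exact ⟨i, by simpa using (congrArg Subtype.val hi).symm⟩
  have hzR : z ∈ R := hQR hzC.1
  -- `Q = D C`
  have hdecQ : ∀ q ∈ Q, ∃ d ∈ D, ∃ i : ℤ, q = d * z ^ i := by
    intro q hq
    obtain ⟨u, hu⟩ := mem_zpowers_iff.1 (hcZ.ge ((hQW0 hq).2.2 a haD))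
    obtain ⟨v, hv⟩ := mem_zpowers_iff.1 (hcZ.ge ((hQW0 hq).2.2 b hbD))
    set c := ⁅a, b⁆ with hc
    have hcc : ∀ g : G, g * c = c * g := mem_center_iff.1 (hZc (hcom a haD b hbD))
    have hconj : ∀ j : ℤ, a ^ j * b * (a ^ j)⁻¹ = c ^ j * b := by
      intro j
      have hab : a * b * a⁻¹ = c * b := by rw [hc, commutatorElement_def]; group
      have key : ∀ k : ℕ, a ^ k * b * (a ^ k)⁻¹ = c ^ k * b := by
        intro k
        induction k with
        | zero => simp
        | succ k ih =>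
          rw [pow_succ', show a * a ^ k * b * (a * a ^ k)⁻¹ = a * (a ^ k * b * (a ^ k)⁻¹) * a⁻¹ by group,
            ih, ← mul_assoc a, ((show Commute a c from hcc a).pow_right k).eq]
          rw [show c ^ k * a * b * a⁻¹ = c ^ k * (a * b * a⁻¹) by group, hab, pow_succ, mul_assoc]
      rcases j with k | k
      · simpa using key k
      · rw [zpow_negSucc, zpow_negSucc]
        have h := key (k + 1)
        have hc' : Commute (a ^ (k + 1)) (c ^ (k + 1)) := (show Commute a c from hcc a).pow_pow _ _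
        calc (a ^ (k + 1))⁻¹ * b * (a ^ (k + 1))⁻¹⁻¹
            = (c ^ (k + 1))⁻¹ * ((a ^ (k + 1))⁻¹ * (c ^ (k + 1) * b) * a ^ (k + 1)) := by
              rw [← mul_assoc (a ^ (k + 1))⁻¹, (hc'.inv_left).eq]; group
          _ = (c ^ (k + 1))⁻¹ * b := by rw [← h]; group
    have hconj2 : ∀ j : ℤ, b ^ j * a * (b ^ j)⁻¹ = c ^ (-j) * a := by
      intro j
      have key : a * b ^ j * a⁻¹ = c ^ j * b ^ j := by
        rw [← conj_zpow, show a * b * a⁻¹ = c * b by rw [hc, commutatorElement_def]; group,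
          (show Commute c b from (hcc b).symm).mul_zpow]
      calc b ^ j * a * (b ^ j)⁻¹ = c ^ (-j) * ((c ^ j * b ^ j) * a * (b ^ j)⁻¹) := by group
        _ = c ^ (-j) * a := by rw [← key]; group
    set d := a ^ v * b ^ (-u) with hd
    have hdD : d ∈ D := mul_mem (zpow_mem haD v) (zpow_mem hbD _)
    have hca : Commute a (c ^ u) := (show Commute a c from hcc a).zpow_right u
    have hda : d * a * d⁻¹ = c ^ u * a := by
      rw [hd, show a ^ v * b ^ (-u) * a * (a ^ v * b ^ (-u))⁻¹ =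
        a ^ v * (b ^ (-u) * a * (b ^ (-u))⁻¹) * (a ^ v)⁻¹ by group, hconj2, neg_neg,
        ← mul_assoc (a ^ v), (hca.zpow_left v).eq]
      group
    have hdb : d * b * d⁻¹ = c ^ v * b := by
      rw [hd, show a ^ v * b ^ (-u) * b * (a ^ v * b ^ (-u))⁻¹ = a ^ v * b * (a ^ v)⁻¹ by group, hconj]
    have hqa : q * a * q⁻¹ = c ^ u * a := by rw [hu]; group
    have hqb : q * b * q⁻¹ = c ^ v * b := by rw [hv]; group
    have hC' : d⁻¹ * q ∈ C := by
      refine ⟨(mul_mem (inv_mem (hDQ hdD)) hq : _ ∈ Q), mem_centralizer_iff.2 fun e he => ?_⟩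
      have hK : D ≤ centralizer ({d⁻¹ * q} : Set G) := by
        rw [← hsup (zpowers b ⊔ Z) (sup_le (zpowers_le.2 hbD) (zpowers_le.2 hxD))
          (hpair b hbD (fun h => hbE (hZE0 h))).1 (fun h => hbE (h ▸ mem_sup_left (mem_zpowers b))),
          ← hE0eq]
        have hZ' : Z ≤ centralizer ({d⁻¹ * q} : Set G) := hZc.trans (center_le_centralizer _)
        refine sup_le (sup_le (zpowers_le.2 ?_) hZ') (sup_le (zpowers_le.2 ?_) hZ') <;>
          refine mem_centralizer_singleton_iff.2 ?_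
        · calc a * (d⁻¹ * q) = d⁻¹ * (d * a * d⁻¹) * q := by group
            _ = d⁻¹ * q * a := by rw [hda, ← hqa]; group
        · calc b * (d⁻¹ * q) = d⁻¹ * (d * b * d⁻¹) * q := by group
            _ = d⁻¹ * q * b := by rw [hdb, ← hqb]; group
      exact mem_centralizer_singleton_iff.1 (hK he)
    obtain ⟨i, hi⟩ := hgen _ hC'
    exact ⟨d, hdD, i, by rw [← hi]; group⟩
  intro n hn
  refine ⟨hn, fun y hy => ?_⟩
  obtain ⟨d, hd, i, rfl⟩ := hdecQ y hy
  have hnQ : ∀ u ∈ Q, n⁻¹ * u * n ∈ Q := fun u hu => by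
    have := (mem_normalizer_iff.1 (inv_mem hn) u).1 hu
    rwa [inv_inv] at this
  have hnD : ∀ u ∈ D, n⁻¹ * u * n ∈ D := fun u hu => by
    have := (mem_normalizer_iff.1 (inv_mem (hND hn)) u).1 hu
    rwa [inv_inv] at this
  obtain ⟨m, hm⟩ := hgen (n⁻¹ * z * n) ⟨hnQ z hzC.1, by
    show _ ∈ centralizer (D : Set G)
    rw [mem_centralizer_iff]
    intro u hu
    have h1 : n * u * n⁻¹ ∈ D := (mem_normalizer_iff.1 (hND hn) u).1 hu
    have h2 := mem_centralizer_iff.1 hzC.2 _ h1
    calc u * (n⁻¹ * z * n) = n⁻¹ * ((n * u * n⁻¹) * z) * n := by group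
      _ = n⁻¹ * z * n * u := by rw [h2]; group⟩
  have hconj : n⁻¹ * z ^ i * n = (z ^ m) ^ i := by
    rw [← hm]
    have := conj_zpow (a := n⁻¹) (b := z) (i := i)
    rw [inv_inv] at this
    exact this.symm
  -- `z ^ (m - 1) ∈ M`
  have hzm : z ^ (m - 1) ∈ M := by
    obtain ⟨k, hk⟩ := hgen x ⟨hxQ, center_le_centralizer _ hxc⟩
    have hxm : x ^ (m - 1) = 1 := by
      have h1 : n⁻¹ * x * n = x ^ m := by
        rw [hk, ← zpow_mul, mul_comm, zpow_mul, ← hm]
        have := conj_zpow (a := n⁻¹) (b := z) (i := k)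
        rw [inv_inv] at this
        exact this.symm
      rw [mem_center_iff.1 hxc n⁻¹, inv_mul_cancel_right] at h1
      rw [zpow_sub, zpow_one, ← h1, mul_inv_cancel]
    rw [← orderOf_dvd_iff_zpow_eq_one, hx] at hxm
    obtain ⟨l, hl⟩ := hxm
    rw [hl, zpow_mul, zpow_natCast]
    exact zpow_mem (hMpow z hzR) l
  have hnz : n⁻¹ * (d * z ^ i) * n = (n⁻¹ * d * n) * ((z ^ (m - 1)) ^ i * z ^ i) := by
    rw [show n⁻¹ * (d * z ^ i) * n = (n⁻¹ * d * n) * (n⁻¹ * z ^ i * n) by group, hconj,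
      ← zpow_mul, ← zpow_mul, ← zpow_add]
    congr 2; ring
  rw [hnz]
  set e := d⁻¹ * (n⁻¹ * d * n) with he
  have heD : e ∈ D := mul_mem (inv_mem hd) (hnD d hd)
  set f := e * (z ^ (m - 1)) ^ i with hf
  have hfM : f ∈ M := mul_mem (hDM e heD) (zpow_mem hzm i)
  have hfR : f ∈ R := mul_mem (hDR heD) (zpow_mem (zpow_mem hzR _) i)
  have : (d * z ^ i)⁻¹ * ((n⁻¹ * d * n) * ((z ^ (m - 1)) ^ i * z ^ i)) = f * ⁅f⁻¹, (z ^ i)⁻¹⁆ := by
    rw [commutatorElement_def, hf, he]; group
  rw [this]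
  exact mul_mem hfM (hMcomm _ (inv_mem hfR) _ (inv_mem (zpow_mem hzR i)))

end CfsgLib.RankTwoIso
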