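import Cfsg.Agent.Lib.PGroup.MaximalClass
import Cfsg.Agent.Lib.Transfer.MaxClass
import Cfsg.Agent.Lib.StructC.PolySeq
import Cfsg.Agent.Lib.Transfer.ClassTwo

/-!
A `3`-group of maximal class with a group of automorphisms fixing a central element of order `3`
and without nontrivial fixed points on the Frattini quotient has odd exponent `n`.
-/

set_option autoImplicit false
set_option linter.unusedSectionVars false
set_option linter.style.haveILetI false

namespace CfsgLib.RankTwoIso

open Subgroup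
open scoped commutatorElement

variable {P : Type*} [Group P] [Finite P]

/-- On a section of order three an automorphism is `±1`. -/
theorem sign_dichotomy {K H : Subgroup P} (hKH : K ≤ H) (hHK : H ≤ normalizer (K : Set P))
    (hidx : K.relIndex H = 3) (α : MulAut P) (hH : ∀ u ∈ H, α u ∈ H) (hK : ∀ u ∈ K, α u ∈ K) :
    (∀ u ∈ H, α u * u⁻¹ ∈ K) ∨ (∀ u ∈ H, α u * u ∈ K) := by
  haveI : Fact (Nat.Prime 3) := ⟨Nat.prime_three⟩
  haveI : (K.subgroupOf H).Normal := normal_subgroupOf_of_le_normalizer hHK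
  have hc : Nat.card (H ⧸ K.subgroupOf H) = 3 := by rw [← index_eq_card]; exact hidx
  obtain ⟨v, hv⟩ : ∃ v : H, (QuotientGroup.mk v : H ⧸ K.subgroupOf H) ≠ 1 := by
    have : Nontrivial (H ⧸ K.subgroupOf H) := Finite.one_lt_card_iff_nontrivial.1 (by omega)
    obtain ⟨q, hq⟩ := exists_ne (1 : H ⧸ K.subgroupOf H)
    obtain ⟨v, rfl⟩ := QuotientGroup.mk_surjective q
    exact ⟨v, hq⟩
  let f : H →* H ⧸ K.subgroupOf H := (QuotientGroup.mk' _).comp
    { toFun := fun u => (⟨α u, hH u u.2⟩ : H)
      map_one' := Subtype.ext (map_one α)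
      map_mul' := fun a b => Subtype.ext (map_mul α (a : P) b) }
  have hf : ∀ u : H, f u = QuotientGroup.mk (⟨α u, hH u u.2⟩ : H) := fun u => rfl
  obtain ⟨m, hm⟩ := mem_zpowers_iff.1 (mem_zpowers_of_prime_card hc hv (g' := f v))
  have hall : ∀ u : H, f u = (QuotientGroup.mk u : H ⧸ K.subgroupOf H) ^ m := by
    intro u
    obtain ⟨i, hi⟩ := mem_zpowers_iff.1 (mem_zpowers_of_prime_card hc hv
      (g' := (QuotientGroup.mk u : H ⧸ K.subgroupOf H)))
    rw [← QuotientGroup.mk_zpow, eq_comm, QuotientGroup.eq] at hi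
    have h1 : f (u⁻¹ * v ^ i) = 1 := by
      rw [hf, QuotientGroup.eq_one_iff, mem_subgroupOf]
      exact hK _ (mem_subgroupOf.1 hi)
    rw [map_mul, map_inv, inv_mul_eq_one, map_zpow, ← hm] at h1
    rw [h1, (QuotientGroup.eq.2 hi : (QuotientGroup.mk u : H ⧸ K.subgroupOf H) = QuotientGroup.mk (v ^ i)),
      QuotientGroup.mk_zpow, ← zpow_mul, ← zpow_mul, mul_comm]
  have hcube : ∀ q : H ⧸ K.subgroupOf H, q ^ m = q ^ (m % 3) := fun q => by
    have h3 : q ^ (3 : ℤ) = 1 := by
      rw [show (3 : ℤ) = ((Nat.card (H ⧸ K.subgroupOf H) : ℕ) : ℤ) by rw [hc]; rfl, zpow_natCast,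
        pow_card_eq_one']
    conv_lhs => rw [← Int.mul_ediv_add_emod m 3, zpow_add, zpow_mul, h3, one_zpow, one_mul]
  rcases (show m % 3 = 0 ∨ m % 3 = 1 ∨ m % 3 = 2 by omega) with h | h | h
  · exfalso
    -- the induced map is surjective
    have hsurj : ∀ u : H, (QuotientGroup.mk u : H ⧸ K.subgroupOf H) = 1 := by
      intro u
      have hmapH : H.map α.toMonoidHom = H := eq_of_le_of_card_ge
        (by rintro _ ⟨a, ha, rfl⟩; exact hH a ha) (card_map_of_injective (MulEquiv.injective α)).ge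
      obtain ⟨a, ha, hau⟩ := hmapH.ge u.2
      have h1 := hall ⟨a, ha⟩
      rw [hcube, h, zpow_zero, hf] at h1
      rw [← h1]
      exact congrArg QuotientGroup.mk (Subtype.ext hau.symm)
    exact hv (hsurj v)
  · left
    intro u hu
    have h1 := hall ⟨u, hu⟩
    rw [hcube, h, zpow_one, hf, eq_comm, QuotientGroup.eq, mem_subgroupOf] at h1
    simp only [Subgroup.coe_mul, InvMemClass.coe_inv] at h1
    have := (mem_normalizer_iff.1 (hHK hu) _).1 h1
    simpa [mul_assoc] using this
  · right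
    intro u hu
    have h1 := hall ⟨u, hu⟩
    rw [hcube, h] at h1
    have h2 : (QuotientGroup.mk (⟨u, hu⟩ : H) : H ⧸ K.subgroupOf H) ^ (2 : ℤ) =
        (QuotientGroup.mk (⟨u, hu⟩ : H))⁻¹ := by
      apply eq_inv_of_mul_eq_one_left
      rw [← zpow_add_one, show ((2 : ℤ) + 1) = ((Nat.card (H ⧸ K.subgroupOf H) : ℕ) : ℤ) by rw [hc]; rfl,
        zpow_natCast, pow_card_eq_one']
    rw [h2, hf, eq_inv_iff_mul_eq_one, ← QuotientGroup.mk_mul, QuotientGroup.eq_one_iff, mem_subgroupOf] at h1
    simpa using h1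

/-- A central commutator is additive in powers of the first entry. -/
theorem comm_zpow_left {c u : P} (hc : ∀ g : P, g * ⁅c, u⁆ = ⁅c, u⁆ * g) (k : ℤ) :
    ⁅c ^ k, u⁆ = ⁅c, u⁆ ^ k := by
  set z := ⁅c, u⁆ with hz
  have h1 : u * c * u⁻¹ = z⁻¹ * c := by rw [hz, commutatorElement_def]; group
  have h2 : u * c ^ (-k) * u⁻¹ = (z⁻¹) ^ (-k) * c ^ (-k) := by
    rw [← conj_zpow, h1, (show Commute z⁻¹ c from (show Commute c z from hc c).symm.inv_left).mul_zpow]
  calc ⁅c ^ k, u⁆ = c ^ k * (u * c ^ (-k) * u⁻¹) := by rw [commutatorElement_def, zpow_neg]; group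
    _ = c ^ k * (z ^ k * c ^ (-k)) := by rw [h2, inv_zpow', neg_neg]
    _ = z ^ k := by
      rw [← mul_assoc, ((show Commute c z from hc c).zpow_zpow k k).eq, mul_assoc, ← zpow_add,
        add_neg_cancel, zpow_zero, mul_one]

/-- If `α` inverts `P / γ₁` then it acts on `γ_i / γ_{i+1}` as `(-1)^(i+1)`. -/
theorem lcs_sign (α : MulAut P) (h : ∀ u : P, α u * u ∈ (⊤ : Subgroup P).lowerCentralSeries 1) :
    ∀ i : ℕ, ∀ c ∈ (⊤ : Subgroup P).lowerCentralSeries i,
      α c * c ^ ((-1 : ℤ) ^ i) ∈ (⊤ : Subgroup P).lowerCentralSeries (i + 1) := by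
  intro i
  induction i with
  | zero => intro c _; rw [pow_zero, zpow_one]; exact h c
  | succ i ih =>
    set e : ℤ := (-1) ^ i with he
    haveI : ((⊤ : Subgroup P).lowerCentralSeries (i + 1 + 1)).Normal := inferInstanceAs ((⊤ : Subgroup P).lowerCentralSeries _).Normal
    set π := QuotientGroup.mk' ((⊤ : Subgroup P).lowerCentralSeries (i + 1 + 1)) with hπ
    have hcen : ∀ c ∈ (⊤ : Subgroup P).lowerCentralSeries (i + 1), ∀ g : P, π g * π c = π c * π g := by
      intro c hc g
      rw [eq_comm, ← commutatorElement_eq_one_iff_mul_comm, ← map_commutatorElement]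
      refine (QuotientGroup.eq_one_iff _).2 ?_
      rw [Subgroup.lowerCentralSeries_succ]
      exact commutator_mem_commutator hc (mem_top g)
    intro c hc
    rw [show ((-1 : ℤ) ^ (i + 1)) = -e by rw [pow_succ, mul_neg, mul_one]]
    induction hc using closure_induction with
    | mem y hy =>
      obtain ⟨c, hc, u, -, rfl⟩ := hy
      have hd : α c * c ^ e ∈ (⊤ : Subgroup P).lowerCentralSeries (i + 1) := ih c hc
      have hg := h u
      have hz : ⁅c, u⁆ ∈ (⊤ : Subgroup P).lowerCentralSeries (i + 1) := by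
        rw [Subgroup.lowerCentralSeries_succ]; exact commutator_mem_commutator hc (mem_top u)
      set z := π ⁅c, u⁆ with hzdef
      have hzc : ∀ q, q * z = z * q := fun q => by
        obtain ⟨g, rfl⟩ := QuotientGroup.mk'_surjective _ q
        exact hcen _ hz g
      -- `π (α c) = d * c ^ (-e)` and `π (α u) = g * u⁻¹`
      have h1 : π (α c) = π (α c * c ^ e) * π c ^ (-e) := by
        rw [map_mul, map_zpow, zpow_neg, mul_inv_cancel_right]
      have h2 : π (α u) = π (α u * u) * (π u)⁻¹ := by rw [map_mul, mul_inv_cancel_right]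
      have hdc : ∀ q, q * π (α c * c ^ e) = π (α c * c ^ e) * q := fun q => by
        obtain ⟨g, rfl⟩ := QuotientGroup.mk'_surjective _ q
        exact hcen _ hd g
      have hgc : π (α u * u) * π c ^ (-e) = π c ^ (-e) * π (α u * u) := by
        refine (Commute.zpow_right (?_ : Commute (π (α u * u)) (π c)) _).eq
        refine Commute.symm ?_
        rw [commute_iff_eq, ← commutatorElement_eq_one_iff_mul_comm, ← map_commutatorElement]
        refine (QuotientGroup.eq_one_iff _).2 ?_
        exact CfsgLib.StructC.commutator_lowerCentralSeries_le i 1 (commutator_mem_commutator hc hg)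
      have hz1 : ∀ q, q * ⁅π c, π u⁆ = ⁅π c, π u⁆ * q := fun q => by
        rw [← map_commutatorElement]; exact hzc q
      have h3 : π (α ⁅c, u⁆) = z ^ e := by
        rw [map_commutatorElement, map_commutatorElement, h1, h2]
        set d := π (α c * c ^ e)
        set g := π (α u * u)
        have h4 : ⁅d * π c ^ (-e), g * (π u)⁻¹⁆ = ⁅π c ^ (-e), (π u)⁻¹⁆ := by
          have hzz : ∀ q, q * ⁅π c ^ (-e), (π u)⁻¹⁆ = ⁅π c ^ (-e), (π u)⁻¹⁆ * q := by
            intro q
            have hc1 : ⁅π c, (π u)⁻¹⁆ = z⁻¹ := by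
              have : ⁅π c, (π u)⁻¹⁆ = (π u)⁻¹ * ⁅π c, π u⁆⁻¹ * π u := by
                simp only [commutatorElement_def]; group
              rw [this, ← map_commutatorElement, ← hzdef,
                (show Commute (π u)⁻¹ z⁻¹ from (show Commute (π u)⁻¹ z from hzc _).inv_right).eq,
                inv_mul_cancel_right]
            have hc2 : ∀ q, q * ⁅π c, (π u)⁻¹⁆ = ⁅π c, (π u)⁻¹⁆ * q := fun q => by
              rw [hc1]; exact ((show Commute q z from hzc q).inv_right).eq
            rw [comm_zpow_left hc2, hc1]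
            exact (((show Commute q z from hzc q).inv_right).zpow_right _).eq
          simp only [commutatorElement_def, mul_inv_rev, inv_inv] at hzz ⊢
          calc d * π c ^ (-e) * (g * (π u)⁻¹) * ((π c ^ (-e))⁻¹ * d⁻¹) * (π u * g⁻¹)
              = d * (π c ^ (-e) * g) * (π u)⁻¹ * (π c ^ (-e))⁻¹ * d⁻¹ * π u * g⁻¹ := by group
            _ = d * (g * (π c ^ (-e) * (π u)⁻¹ * (π c ^ (-e))⁻¹)) * d⁻¹ * π u * g⁻¹ := by
                rw [← hgc]; group
            _ = g * (π c ^ (-e) * (π u)⁻¹ * (π c ^ (-e))⁻¹) * π u * g⁻¹ := by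
                rw [← hdc, mul_inv_cancel_right]
            _ = g * (π c ^ (-e) * (π u)⁻¹ * (π c ^ (-e))⁻¹ * π u) * g⁻¹ := by group
            _ = π c ^ (-e) * (π u)⁻¹ * (π c ^ (-e))⁻¹ * π u := by rw [hzz g, mul_inv_cancel_right]
        have hc1 : ⁅π c, (π u)⁻¹⁆ = z⁻¹ := by
          have : ⁅π c, (π u)⁻¹⁆ = (π u)⁻¹ * ⁅π c, π u⁆⁻¹ * π u := by
            simp only [commutatorElement_def]; group
          rw [this, ← map_commutatorElement, ← hzdef,
            (show Commute (π u)⁻¹ z⁻¹ from (show Commute (π u)⁻¹ z from hzc _).inv_right).eq,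
            inv_mul_cancel_right]
        rw [h4, comm_zpow_left (fun q => by rw [hc1]; exact ((show Commute q z from hzc q).inv_right).eq),
          hc1, inv_zpow', neg_neg]
      rw [← QuotientGroup.eq_one_iff]
      show π (α ⁅c, u⁆ * ⁅c, u⁆ ^ (-e)) = 1
      rw [map_mul, map_zpow, h3, ← zpow_add, add_neg_cancel, zpow_zero]
    | one => simp [one_mem]
    | mul a b ha hb iha ihb =>
      rw [← QuotientGroup.eq_one_iff] at iha ihb ⊢
      change π (α (a * b) * (a * b) ^ (-e)) = 1
      change π (α a * a ^ (-e)) = 1 at iha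
      change π (α b * b ^ (-e)) = 1 at ihb
      simp only [map_mul, map_zpow] at iha ihb ⊢
      rw [mul_eq_one_iff_eq_inv] at iha ihb
      rw [iha, ihb, (show Commute (π a) (π b) from hcen b hb a).mul_zpow]
      have hab : Commute (π a ^ (-e)) (π b ^ (-e)) := (show Commute (π a) (π b) from hcen b hb a).zpow_zpow _ _
      rw [← mul_inv_rev, hab.eq, inv_mul_cancel]
    | inv a ha iha =>
      rw [← QuotientGroup.eq_one_iff] at iha ⊢
      change π (α a⁻¹ * a⁻¹ ^ (-e)) = 1
      change π (α a * a ^ (-e)) = 1 at iha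
      simp only [map_mul, map_zpow, map_inv] at iha ⊢
      rw [mul_eq_one_iff_eq_inv] at iha
      rw [iha, inv_inv, inv_zpow, mul_inv_cancel]

/-- The maximal class case. -/
theorem maxClass_shape {n : ℕ} (hn : 4 ≤ n) (hP : Nat.card P = 3 ^ n)
    (hlcs : (⊤ : Subgroup P).lowerCentralSeries (n - 2) ≠ ⊥) (S : Subgroup (MulAut P)) {x0 : P}
    (hx0 : orderOf x0 = 3) (hx0c : x0 ∈ center P) (hfix : ∀ α ∈ S, α x0 = x0)
    (hv : ∀ v : P, (∀ α ∈ S, α v * v⁻¹ ∈ frattini P) → v ∈ frattini P)
    (hgen : ∀ K : Subgroup P, frattini P ≤ K → (∀ α ∈ S, ∀ u : P, α u * u⁻¹ ∈ K) → K = ⊤) :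
    ∃ k : ℕ, 2 ≤ k ∧ n = 2 * k + 1 ∧ ∃ _ : Group.IsNilpotent P, Group.nilpotencyClass P = 2 * k := by
  haveI : Fact (Nat.Prime 3) := ⟨Nat.prime_three⟩
  have hPp : IsPGroup 3 P := IsPGroup.of_card hP
  haveI := hPp.isNilpotent
  have hcl : Group.nilpotencyClass P = n - 1 := by
    refine le_antisymm ((CfsgLib.Transfer.nilpotencyClass_le_of_card hP).trans (max_le le_rfl (by omega))) ?_
    by_contra h
    exact hlcs (Subgroup.lowerCentralSeries_eq_bot_iff_nilpotencyClass_le.2 (by omega))
  obtain ⟨hnc, hcard⟩ := CfsgLib.PGroup.maxClass_card_lcs (by omega) hP hcl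
  set γ := fun i => (⊤ : Subgroup P).lowerCentralSeries i with hγ
  have hγcard : ∀ i, 1 ≤ i → i ≤ n - 1 → Nat.card (γ i) = 3 ^ (n - 1 - i) := hcard
  have hidx1 : (γ 1).index = 9 := by
    have h := (γ 1).card_mul_index
    rw [hγcard 1 le_rfl (by omega), hP, show (3 : ℕ) ^ n = 3 ^ (n - 1 - 1) * 9 by
      conv_lhs => rw [show n = (n - 1 - 1) + 2 by omega, pow_add]
      norm_num] at h
    exact Nat.eq_of_mul_eq_mul_left (by positivity) h
  have hfr : frattini P = γ 1 := by
    have hle : γ 1 ≤ frattini P := by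
      simp only [hγ]; rw [top_lowerCentralSeries_one]
      exact CfsgLib.Transfer.commutator_le_frattini_pgroup hPp
    haveI : (frattini P).Characteristic := inferInstance
    obtain ⟨a, ha⟩ := hPp.index (frattini P)
    have h9 : 9 ≤ (frattini P).index := by
      by_contra hlt
      apply hnc
      have ha2 : a ≤ 1 := by
        by_contra hh
        have := Nat.pow_le_pow_right (show 0 < 3 by norm_num) (Nat.not_le.1 hh)
        omega
      have hcycQ : IsCyclic (P ⧸ frattini P) := by
        interval_cases a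
        · haveI : Subsingleton (P ⧸ frattini P) :=
            (Nat.card_eq_one_iff_unique.1 (by rw [← index_eq_card, ha, pow_zero])).1
          infer_instance
        · exact isCyclic_of_prime_card (p := 3) (by rw [← index_eq_card, ha, pow_one])
      obtain ⟨q, hq⟩ := IsCyclic.exists_generator (α := P ⧸ frattini P)
      obtain ⟨g, rfl⟩ := QuotientGroup.mk_surjective q
      have htop : zpowers g ⊔ frattini P = ⊤ := by
        refine eq_top_iff.2 fun u _ => ?_
        obtain ⟨k, hk⟩ := mem_zpowers_iff.1 (hq (QuotientGroup.mk u))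
        rw [← QuotientGroup.mk_zpow, QuotientGroup.eq] at hk
        rw [← mul_inv_cancel_left (g ^ k) u]
        exact mul_mem (mem_sup_left (zpow_mem (mem_zpowers g) k)) (mem_sup_right hk)
      haveI : IsCyclic P := ⟨g, fun u => (frattini_nongenerating htop).ge (mem_top u)⟩
      exact isCyclic_of_surjective _ (QuotientGroup.mk'_surjective _)
    refine (eq_of_le_of_card_ge hle ?_).symm
    have h1 := (frattini P).card_mul_index
    have h2 := (γ 1).card_mul_index
    rw [hidx1, ← h1] at h2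
    nlinarith
  have hαγ : ∀ α : MulAut P, ∀ i, ∀ c ∈ γ i, α c ∈ γ i := by
    intro α i c hc
    have h1 := map_lowerCentralSeries (S := (⊤ : Subgroup P)) α.toMonoidHom i
    rw [map_top_of_surjective _ α.surjective] at h1
    exact h1.le ⟨c, hc, rfl⟩
  have hbot : γ (n - 1) = ⊥ := Subgroup.lowerCentralSeries_eq_bot_iff_nilpotencyClass_le.2 hcl.le
  have hZ : center P = γ (n - 2) := by
    obtain ⟨hZ3, -⟩ := CfsgLib.Transfer.card_center_of_maxClass (p := 3) (by omega) hP hcl
    refine (eq_of_le_of_card_ge ?_ ?_).symm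
    · intro c hc
      rw [mem_center_iff]
      intro g
      have h1 : ⁅c, g⁆ ∈ γ (n - 1) := by
        show _ ∈ (⊤ : Subgroup P).lowerCentralSeries (n - 1)
        rw [show n - 1 = n - 2 + 1 by omega, Subgroup.lowerCentralSeries_succ]
        exact commutator_mem_commutator hc (mem_top g)
      rw [hbot, mem_bot, commutatorElement_eq_one_iff_mul_comm] at h1
      exact h1.symm
    · rw [hZ3, hγcard (n - 2) (by omega) (by omega), show n - 1 - (n - 2) = 1 by omega, pow_one]
  -- the two step centralizer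
  set G1 := centralizer (γ (n - 3) : Set P) with hG1
  have hG1γ : γ 1 ≤ G1 := by
    intro g hg
    rw [mem_centralizer_iff]
    intro c hc
    have h1 : ⁅c, g⁆ ∈ γ (n - 1) := by
      have := CfsgLib.StructC.commutator_lowerCentralSeries_le (n - 3) 1 (commutator_mem_commutator hc hg)
      rw [show n - 3 + 1 + 1 = n - 1 by omega] at this
      exact this
    rw [hbot, mem_bot, commutatorElement_eq_one_iff_mul_comm] at h1
    exact h1
  have hcard3 : Nat.card (γ (n - 3)) = 9 := by
    rw [hγcard (n - 3) (by omega) (by omega), show n - 1 - (n - 3) = 2 by omega]; norm_num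
  have hcard2 : Nat.card (γ (n - 2)) = 3 := by
    rw [hγcard (n - 2) (by omega) (by omega), show n - 1 - (n - 2) = 1 by omega, pow_one]
  have hG1idx : G1.index = 3 := by
    have hle : γ (n - 2) ≤ γ (n - 3) := Subgroup.lowerCentralSeries_antitone _ (by omega)
    obtain ⟨e, he, he'⟩ := SetLike.exists_of_lt (lt_of_le_of_ne hle fun h => by
      rw [h, hcard3] at hcard2; omega)
    have heC : ∀ g : P, g * e = e * g → g ∈ G1 := by
      intro g hg
      have hgen3 : zpowers e ⊔ γ (n - 2) = γ (n - 3) := by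
        refine eq_of_le_of_card_ge (sup_le (zpowers_le.2 he) hle) ?_
        have hlt : Nat.card (γ (n - 2)) < Nat.card (zpowers e ⊔ γ (n - 2) : Subgroup P) :=
          lt_of_le_of_ne (card_le_of_le le_sup_right) fun h =>
            he' ((eq_of_le_of_card_ge le_sup_right h.ge).ge (mem_sup_left (mem_zpowers e)))
        obtain ⟨a, ha⟩ := IsPGroup.iff_card.1 (hPp.to_subgroup (zpowers e ⊔ γ (n - 2)))
        rw [hcard2, ha] at hlt
        rw [hcard3, ha]
        calc 9 = 3 ^ 2 := by norm_num
          _ ≤ 3 ^ a := Nat.pow_le_pow_right (by norm_num) (by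
              by_contra hh
              have := Nat.pow_le_pow_right (show 0 < 3 by norm_num) (show a ≤ 1 by omega)
              omega)
      have hle3 : γ (n - 3) ≤ centralizer ({g} : Set P) := by
        rw [← hgen3]
        exact sup_le (zpowers_le.2 (mem_centralizer_singleton_iff.2 hg.symm))
          (hZ ▸ center_le_centralizer _)
      rw [hG1, mem_centralizer_iff]
      exact fun c hc => mem_centralizer_singleton_iff.1 (hle3 hc)
    let f : P →* P :=
      { toFun := fun g => ⁅g, e⁆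
        map_one' := commutatorElement_one_left e
        map_mul' := fun a b => by
          have hb : ⁅b, e⁆ ∈ center P := by
            rw [hZ]
            show _ ∈ (⊤ : Subgroup P).lowerCentralSeries (n - 2)
            rw [show n - 2 = n - 3 + 1 by omega, Subgroup.lowerCentralSeries_succ, ← commutatorElement_inv]
            exact inv_mem (commutator_mem_commutator he (mem_top b))
          calc ⁅a * b, e⁆ = a * ⁅b, e⁆ * (e * a⁻¹ * e⁻¹) := by simp only [commutatorElement_def]; group
            _ = ⁅b, e⁆ * ⁅a, e⁆ := by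
                rw [mem_center_iff.1 hb a]; simp only [commutatorElement_def]; group
            _ = ⁅a, e⁆ * ⁅b, e⁆ := (mem_center_iff.1 hb _).symm }
    have hker : f.ker ≤ G1 := fun g hg => heC g (commutatorElement_eq_one_iff_mul_comm.1 hg)
    have hrange : Nat.card f.range ∣ 3 := by
      rw [← hcard2]
      refine card_dvd_of_le ?_
      rintro _ ⟨g, rfl⟩
      show ⁅g, e⁆ ∈ (⊤ : Subgroup P).lowerCentralSeries (n - 2)
      rw [show n - 2 = n - 3 + 1 by omega, Subgroup.lowerCentralSeries_succ, ← commutatorElement_inv]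
      exact inv_mem (commutator_mem_commutator he (mem_top g))
    have h1 : G1.index ∣ 3 := (index_dvd_of_le hker).trans (index_ker f ▸ hrange)
    rcases (Nat.dvd_prime Nat.prime_three).1 h1 with h | h
    · exfalso
      rw [index_eq_one] at h
      have hle3 : γ (n - 3) ≤ center P := fun c hc => mem_center_iff.2 fun g =>
        (mem_centralizer_iff.1 (h.ge (mem_top g) : g ∈ centralizer (γ (n - 3) : Set P)) c hc).symm
      have := card_le_of_le hle3
      rw [hZ, hcard3, hcard2] at this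
      omega
    · exact h
  have hrel : (γ 1).relIndex G1 = 3 := by
    have := relIndex_mul_index hG1γ
    rw [hidx1, hG1idx] at this
    omega
  haveI hG1n : G1.Normal := by
    haveI : (γ (n - 3)).Normal := inferInstanceAs ((⊤ : Subgroup P).lowerCentralSeries _).Normal
    rw [hG1]; infer_instance
  have hαG1 : ∀ α : MulAut P, ∀ u ∈ G1, α u ∈ G1 := by
    intro α u hu
    rw [hG1, mem_centralizer_iff]
    intro c hc
    have := congrArg α (mem_centralizer_iff.1 hu (α.symm c) (hαγ α.symm _ c hc))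
    simpa using this
  have htop : ∀ α : MulAut P, (∀ u, α u * u⁻¹ ∈ G1) ∨ (∀ u, α u * u ∈ G1) := fun α =>
    (sign_dichotomy (H := ⊤) le_top (by rw [normalizer_eq_top]) (by rw [relIndex_top_right, hG1idx]) α
      (fun _ _ => mem_top _) (hαG1 α)).imp (fun h u => h u (mem_top u)) (fun h u => h u (mem_top u))
  haveI hγ1n : (γ 1).Normal := inferInstanceAs ((⊤ : Subgroup P).lowerCentralSeries _).Normal
  have hbotd : ∀ α : MulAut P, (∀ u ∈ G1, α u * u⁻¹ ∈ γ 1) ∨ (∀ u ∈ G1, α u * u ∈ γ 1) := fun α =>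
    sign_dichotomy hG1γ (by rw [normalizer_eq_top]; exact le_top) hrel α (hαG1 α) (hαγ α 1)
  obtain ⟨v0, hv0, hv0'⟩ := SetLike.exists_of_lt (lt_of_le_of_ne hG1γ fun h => by
    rw [← h, hidx1] at hG1idx; omega)
  obtain ⟨β, hβS, hβ⟩ : ∃ β ∈ S, ∀ u, β u * u ∈ G1 := by
    by_contra! hno
    have h1 := hgen G1 (hfr ▸ hG1γ) fun α hα u => ((htop α).resolve_right fun h => by
      obtain ⟨u', hu'⟩ := hno α hα; exact hu' (h u')) u
    rw [h1, index_top] at hG1idx
    omega
  obtain ⟨α, hαS, hα⟩ : ∃ α ∈ S, ∀ u ∈ G1, α u * u ∈ γ 1 := by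
    by_contra! hno
    refine hv0' (hfr.le (hv v0 fun α hα => hfr.ge (((hbotd α).resolve_right fun h => ?_) v0 hv0)))
    obtain ⟨u', hu', hu''⟩ := hno α hα
    exact hu'' (h u' hu')
  obtain ⟨φ, hφS, hφtop, hφbot⟩ :
      ∃ φ ∈ S, (∀ u, φ u * u ∈ G1) ∧ ∀ u ∈ G1, φ u * u ∈ γ 1 := by
    rcases htop α with hat | hat
    swap; · exact ⟨α, hαS, hat, hα⟩
    rcases hbotd β with hbb | hbb
    swap; · exact ⟨β, hβS, hβ, hbb⟩
    refine ⟨α * β, mul_mem hαS hβS, fun u => ?_, fun u hu => ?_⟩
    · have := mul_mem (hat (β u)) (hβ u)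
      simpa [mul_assoc] using this
    · have h1 : α (β u * u⁻¹) ∈ γ 1 := hαγ α 1 _ (hbb u hu)
      have := mul_mem h1 (hα u hu)
      simpa [map_mul, mul_assoc] using this
  -- the cube inverts `P / γ₁`
  set π := QuotientGroup.mk' (γ 1) with hπ
  have hcomm : ∀ a b : P, π a * π b = π b * π a := fun a b => by
    rw [← commutatorElement_eq_one_iff_mul_comm, ← map_commutatorElement]
    refine (QuotientGroup.eq_one_iff _).2 ?_
    show _ ∈ (⊤ : Subgroup P).lowerCentralSeries 1
    rw [Subgroup.lowerCentralSeries_succ]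
    exact commutator_mem_commutator (mem_top a) (mem_top b)
  have hsgn : ∀ v ∈ G1, π (φ v) = (π v)⁻¹ := fun v hv => by
    rw [eq_inv_iff_mul_eq_one, ← map_mul]
    exact (QuotientGroup.eq_one_iff _).2 (hφbot v hv)
  have hinv : ∀ u : P, (φ ^ 3) u * u ∈ γ 1 := by
    intro u
    obtain ⟨g, hg⟩ : ∃ g, g = φ u * u := ⟨_, rfl⟩
    have hgG : g ∈ G1 := hg ▸ hφtop u
    have h1 : φ u = g * u⁻¹ := by rw [hg, mul_inv_cancel_right]
    have h3 : (φ ^ 3) u = φ (φ g) * (g * u⁻¹) * (φ g)⁻¹ := by
      simp [pow_succ, MulAut.mul_apply, h1, mul_assoc]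
    have hg3 : π g ^ 3 = 1 := by
      rw [← map_pow, ← hrel]
      refine (QuotientGroup.eq_one_iff _).2 ?_
      haveI : ((γ 1).subgroupOf G1).Normal := normal_subgroupOf
      exact ((γ 1).subgroupOf G1).pow_index_mem (⟨g, hgG⟩ : G1)
    refine (QuotientGroup.eq_one_iff _).1 ?_
    show π ((φ ^ 3) u * u) = 1
    rw [h3, map_mul, map_mul, map_mul, map_mul, map_inv, map_inv, hsgn _ (hαG1 φ g hgG), hsgn g hgG,
      inv_inv]
    have hc : π g * (π g * (π u)⁻¹) * π g * π u = π g * π g * (((π u)⁻¹ * π g) * π u) := by group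
    rw [hc, mul_assoc (π u)⁻¹, hcomm g u, inv_mul_cancel_left, ← pow_three' (π g), hg3]
  have hsign := lcs_sign (φ ^ 3) hinv (n - 2) x0 (hZ.le hx0c)
  rw [hfix _ (pow_mem hφS 3), show n - 2 + 1 = n - 1 by omega] at hsign
  change x0 * x0 ^ ((-1 : ℤ) ^ (n - 2)) ∈ γ (n - 1) at hsign
  rw [hbot, mem_bot, ← zpow_one_add, ← orderOf_dvd_iff_zpow_eq_one, hx0] at hsign
  have hodd : Odd n := by
    by_contra he
    rw [Nat.not_odd_iff_even] at he
    have h2 : Even (n - 2) := by obtain ⟨k, hk⟩ := he; exact ⟨k - 1, by omega⟩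
    rw [h2.neg_one_pow] at hsign
    omega
  obtain ⟨k, hk⟩ := hodd
  exact ⟨k, by omega, hk, hPp.isNilpotent, by omega⟩

end CfsgLib.RankTwoIso
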