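import Cfsg.Agent.Lib.RankTwoIso.Focal
import Cfsg.Agent.Lib.RankTwoIso.Families
import Cfsg.Agent.Lib.RankTwoIso.MaxClass
import Cfsg.Agent.Lib.Coprime.Generation
import Cfsg.Agent.S3888
import Cfsg.Agent.S1447
import Mathlib.GroupTheory.SchurZassenhaus

/-!
The shape of a Sylow subgroup `P ≤ G'` of rank two with a central element of order `p`.
-/

set_option autoImplicit false
set_option linter.unusedSectionVars false
set_option linter.style.haveILetI false

namespace CfsgLib.RankTwoIso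

open Subgroup
open scoped commutatorElement

universe u

variable {G : Type u} [Group G] [Finite G] {p : ℕ} [Fact p.Prime]

theorem core_shape (hp2 : p ≠ 2) (hrank : Cfsg.PRankLE p 2 G) {x : G} (hx : orderOf x = p)
    (hxc : x ∈ center G) (P : Sylow p G) (hPG : (P : Subgroup G) ≤ _root_.commutator G) :
    (Cfsg.IsExtraspecial p ↥(P : Subgroup G) ∧ Nat.card (P : Subgroup G) = p ^ 3 ∧
      ∀ y ∈ (P : Subgroup G), y ^ p = 1) ∨
    (p = 3 ∧ ∃ k : ℕ, 2 ≤ k ∧ Nat.card (P : Subgroup G) = 3 ^ (2 * k + 1) ∧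
      ∃ _ : Group.IsNilpotent ↥(P : Subgroup G), Group.nilpotencyClass ↥(P : Subgroup G) = 2 * k) := by
  have hp := (Fact.out : p.Prime)
  set Q := (P : Subgroup G) with hQdef
  have hxQ : x ∈ Q := mem_sylow_of_central hx hxc P
  have hfocM : focM P = Q := sylow_eq_focM hp2 hrank hx hxc P hPG
  set N := normalizer (Q : Set G) with hN
  haveI hQn : (Q.subgroupOf N).Normal := normal_in_normalizer
  -- a complement
  have hidx : ¬ p ∣ (Q.subgroupOf N).index := fun h =>
    P.not_dvd_index (h.trans (relIndex_dvd_index_of_le le_normalizer))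
  obtain ⟨A', hA'⟩ := exists_left_complement'_of_coprime (N := Q.subgroupOf N) (by
    obtain ⟨k, hk⟩ := IsPGroup.iff_card.1 P.2
    rw [Nat.card_congr (subgroupOfEquivOfLe le_normalizer).toEquiv, hk]
    exact (hp.coprime_iff_not_dvd.2 hidx).pow_left k)
  set A := A'.map N.subtype with hAdef
  have hAN : A ≤ N := map_subtype_le A'
  have hAcop : (Nat.card A).Coprime p := by
    rw [hAdef, card_map_of_injective N.subtype_injective]
    have := hA'.index_eq_card
    rw [← this]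
    exact (hp.coprime_iff_not_dvd.2 hidx).symm
  have hNdec : ∀ n ∈ N, ∃ r ∈ Q, ∃ a ∈ A, n = r * a := by
    intro n hn
    have h1 := hA'.symm.sup_eq_top
    have h2 : (⟨n, hn⟩ : N) ∈ Q.subgroupOf N ⊔ A' := h1 ▸ mem_top _
    rw [← SetLike.mem_coe, normal_mul] at h2
    obtain ⟨r, hr, a, ha, hra⟩ := h2
    exact ⟨r, hr, a, ⟨a, ha, rfl⟩, (congrArg Subtype.val hra).symm⟩
  -- `[P, A] = P`
  set Fr := (frattini Q).map Q.subtype with hFr
  have hcomFr : ∀ a ∈ Q, ∀ b ∈ Q, ⁅a, b⁆ ∈ Fr := fun a ha b hb =>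
    ⟨_, CfsgLib.Transfer.commutatorElement_mem_frattini P.2 ⟨a, ha⟩ ⟨b, hb⟩, rfl⟩
  have hPA : ⁅Q, A⁆ = Q := by
    have hleQ : ⁅Q, A⁆ ≤ Q := le_normalizer_iff_commutator_le_left.mp hAN
    set T := ⁅Q, A⁆ ⊔ Fr with hT
    have hTQ : T ≤ Q := sup_le hleQ (map_subtype_le _)
    have hle : ⁅Q, N⁆ ≤ T := by
      rw [Subgroup.commutator_le]
      intro q hq n hn
      obtain ⟨r, hr, a, ha, rfl⟩ := hNdec n hn
      have h1 : ⁅q, a⁆ ∈ T := mem_sup_left (commutator_mem_commutator hq ha)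
      have h2 : ⁅q, r * a⁆ = ⁅q, r⁆ * (⁅r, ⁅q, a⁆⁆ * ⁅q, a⁆) := by
        simp only [commutatorElement_def]; group
      rw [h2]
      exact mul_mem (mem_sup_right (hcomFr q hq r hr))
        (mul_mem (mem_sup_right (hcomFr r hr _ (hTQ h1))) h1)
    have htop : (⁅Q, A⁆.subgroupOf Q) ⊔ frattini Q = ⊤ := by
      apply map_injective Q.subtype_injective
      rw [Subgroup.map_sup, map_subgroupOf_eq_of_le hleQ, ← MonoidHom.range_eq_map, range_subtype]
      refine le_antisymm hTQ ?_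
      conv_lhs => rw [← hfocM]
      exact sup_le hle le_sup_right
    exact le_antisymm hleQ (subgroupOf_eq_top.1 (frattini_nongenerating htop))
  have hAC : x ∈ centralizer (A : Set G) := mem_centralizer_iff.2 fun a _ => mem_center_iff.1 hxc a
  have hx1 : x ≠ 1 := fun h => hp.ne_one (by rw [← hx, h, orderOf_one])
  have hbot : ⁅Q, A⁆ ⊓ (Q ⊓ centralizer (A : Set G)) = ⊥ → False := fun h =>
    hx1 (by rw [← mem_bot, ← h]; exact ⟨hPA.symm ▸ hxQ, hxQ, hAC⟩)
  have hcopQ : (Nat.card A).Coprime (Nat.card Q) := by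
    obtain ⟨k, hk⟩ := IsPGroup.iff_card.1 P.2
    rw [hk]; exact hAcop.pow_right k
  have hnonab : ¬ IsMulCommutative Q := fun h => hbot (by
    rw [← le_bot_iff, ← CfsgLib.Coprime.commutator_inf_centralizer_eq_bot h hAN hcopQ]
    exact inf_le_inf_left _ inf_le_right)
  have hmeta : ¬ Cfsg.IsMetacyclic Q := fun h =>
    hbot (Cfsg.Agent.S1447.result p hp2 Q A P.2 h hAN hAcop).2.2.1
  -- the automorphisms
  set Φ : ↥N →* MulAut Q := Q.normalizerMonoidHom
  have hΦ : ∀ (g : N) (q : Q), ((Φ g) q : G) = g * q * (g : G)⁻¹ := fun g q => rfl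
  set S := (A.subgroupOf N).map Φ with hSdef
  set x0 : Q := ⟨x, hxQ⟩ with hx0def
  have hx0 : orderOf x0 = p := by rw [← Subgroup.orderOf_coe]; exact hx
  have hx0c : x0 ∈ center Q := mem_center_iff.2 fun g => Subtype.ext (mem_center_iff.1 hxc g)
  have hfix : ∀ α ∈ S, α x0 = x0 := by
    rintro _ ⟨a, -, rfl⟩
    exact Subtype.ext (by rw [hΦ]; exact fixes_zpowers hxc _ x (mem_zpowers x))
  have hgen : ∀ K : Subgroup Q, frattini Q ≤ K → (∀ α ∈ S, ∀ u : Q, α u * u⁻¹ ∈ K) → K = ⊤ := by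
    intro K hK h
    have hle : ⁅Q, A⁆ ≤ K.map Q.subtype := by
      rw [Subgroup.commutator_le]
      intro q hq a ha
      have h1 := h _ ⟨⟨a, hAN ha⟩, ha, rfl⟩ (⟨q, hq⟩⁻¹ : Q)
      have h2 := mul_mem (hK (CfsgLib.Transfer.commutatorElement_mem_frattini P.2 ⟨q, hq⟩
        ((Φ ⟨a, hAN ha⟩) ((⟨q, hq⟩ : Q)⁻¹) * ⟨q, hq⟩))) (by simpa using h1 :
        (Φ ⟨a, hAN ha⟩) ((⟨q, hq⟩ : Q)⁻¹) * ⟨q, hq⟩ ∈ K)
      refine ⟨_, h2, ?_⟩
      simp only [commutatorElement_def, coe_subtype, Subgroup.coe_mul, InvMemClass.coe_inv, hΦ]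
      group
    rw [eq_top_iff]
    intro u _
    obtain ⟨v, hv, hvu⟩ := hle (hPA.symm ▸ u.2 : (u : G) ∈ ⁅Q, A⁆)
    rwa [← Subtype.ext hvu]
  have hv : ∀ v : Q, (∀ α ∈ S, α v * v⁻¹ ∈ frattini Q) → v ∈ frattini Q := by
    intro v hfx
    haveI hKn : (Fr.subgroupOf N).Normal := by
      refine ⟨fun f hf g => ?_⟩
      rw [mem_subgroupOf] at hf ⊢
      obtain ⟨u, hu, huf⟩ := hf
      refine ⟨Φ g u, (Characteristic.fixed (H := frattini Q) inferInstance (Φ g)).ge hu, ?_⟩
      simp only [coe_subtype, hΦ] at huf ⊢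
      rw [huf]; rfl
    set π := QuotientGroup.mk' (Fr.subgroupOf N) with hπ
    set V := (Q.subgroupOf N).map π with hV
    set B := A'.map π with hB
    have hVc : IsMulCommutative V := by
      refine ⟨⟨?_⟩⟩
      rintro ⟨_, u, hu, rfl⟩ ⟨_, w, hw, rfl⟩
      refine Subtype.ext ?_
      show π u * π w = π w * π u
      rw [← commutatorElement_eq_one_iff_mul_comm, ← map_commutatorElement]
      refine (QuotientGroup.eq_one_iff _).2 ?_
      rw [mem_subgroupOf]
      exact hcomFr (u : G) hu (w : G) hw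
    have hBN : B ≤ normalizer (V : Set (N ⧸ Fr.subgroupOf N)) := by
      haveI : V.Normal := hQn.map π (QuotientGroup.mk'_surjective _)
      rw [normalizer_eq_top]; exact le_top
    have hcop : (Nat.card B).Coprime (Nat.card V) := by
      refine (hcopQ.coprime_dvd_left ?_).coprime_dvd_right ?_
      · exact (card_map_dvd A' π).trans (card_map_of_injective N.subtype_injective).symm.dvd
      · exact (card_map_dvd _ π).trans (Nat.card_congr (subgroupOfEquivOfLe le_normalizer).toEquiv).dvd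
    have hVB : ⁅V, B⁆ = V := by
      rw [hV, hB, ← map_commutator]
      congr 1
      apply map_injective N.subtype_injective
      rw [map_commutator, map_subgroupOf_eq_of_le le_normalizer]
      exact hPA
    have h0 := CfsgLib.Coprime.commutator_inf_centralizer_eq_bot hVc hBN hcop
    rw [hVB] at h0
    have hvN : (v : G) ∈ N := le_normalizer v.2
    have hmem : π ⟨v, hvN⟩ ∈ V ⊓ centralizer (B : Set (N ⧸ Fr.subgroupOf N)) := by
      refine ⟨⟨_, v.2, rfl⟩, mem_centralizer_iff.2 ?_⟩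
      rintro _ ⟨a, ha, rfl⟩
      have h1 := hfx _ ⟨a⁻¹, (⟨a⁻¹, inv_mem ha, rfl⟩ : ((a⁻¹ : N) : G) ∈ A), rfl⟩
      rw [← map_mul, ← map_mul]
      refine QuotientGroup.eq.2 ?_
      have hf : (Φ a⁻¹ v * v⁻¹ : Q) ∈ frattini Q := h1
      rw [mem_subgroupOf]
      refine ⟨_, (inferInstance : (frattini Q).Normal).conj_mem _ hf v⁻¹, ?_⟩
      simp only [coe_subtype, Subgroup.coe_mul, InvMemClass.coe_inv, hΦ]
      group
    rw [h0, mem_bot, hπ, QuotientGroup.mk'_apply, QuotientGroup.eq_one_iff, mem_subgroupOf] at hmem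
    obtain ⟨u, hu, huv⟩ := hmem
    rwa [← Subtype.ext huv]
  have hrankQ : Cfsg.PRankLE p 2 Q := by
    intro B hBc hBe
    rw [← card_map_of_injective (K := B) Q.subtype_injective]
    haveI := hBc
    refine hrank _ inferInstance ?_
    rintro _ ⟨b, hb, rfl⟩
    rw [← map_pow, hBe b hb, map_one]
  obtain ⟨n, hn⟩ := IsPGroup.iff_card.1 P.2
  have hn3 : 3 ≤ n := by
    by_contra h
    refine hnonab ?_
    rcases (show n = 0 ∨ n = 1 ∨ n = 2 by omega) with rfl | rfl | rfl
    · haveI : Subsingleton Q := (Nat.card_eq_one_iff_unique.1 (hn.trans (pow_zero p))).1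
      exact ⟨⟨fun a b => Subsingleton.elim _ _⟩⟩
    · haveI : IsCyclic Q := isCyclic_of_prime_card (hn.trans (pow_one p))
      exact IsCyclic.isMulCommutative
    · exact IsPGroup.isMulCommutative_of_card_eq_prime_sq hn
  have hthree : n = 3 → (∀ g : Q, g ^ p = 1) → Cfsg.IsExtraspecial p Q →
      (Cfsg.IsExtraspecial p ↥Q ∧ Nat.card Q = p ^ 3 ∧ ∀ y ∈ Q, y ^ p = 1) := fun h h1 h2 =>
    ⟨h2, h ▸ hn, fun y hy => by simpa using congrArg Subtype.val (h1 ⟨y, hy⟩)⟩
  rcases Cfsg.Agent.S3888.result hp2 n hn hrankQ with h | ⟨-, a, b, c, hc, ha, hb, hcp, hac, hbc, hab⟩ |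
    ⟨h4, s, a, b, c, hs, hc, ha, hb, hcp, hbc, hab, hac⟩ | ⟨rfl, -, hlcs⟩
  · exact absurd h hmeta
  · rcases (show n = 3 ∨ 4 ≤ n by omega) with rfl | h4
    · obtain ⟨h1, h2⟩ := typeI_three hp2 hn a b c hc ha hb (by simpa using hcp) hac hbc (by simpa using hab)
      exact Or.inl (hthree rfl h2 h1)
    · exact (typeI_false S hn h4 hx0 hx0c hfix hv a b c hc ha hb hcp hac hbc hab).elim
  · exact (typeII_false S hn h4 hx0 hx0c hfix hv s a b c hs hc ha hb hcp hbc hab hac).elim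
  · rcases (show n = 3 ∨ 4 ≤ n by omega) with rfl | h4
    · obtain ⟨a, b, hab⟩ : ∃ a b : Q, a * b ≠ b * a := by
        by_contra! h; exact hnonab ⟨⟨h⟩⟩
      refine Or.inl (hthree rfl (fun g => ?_) (CfsgLib.Invol.EssentialFour.extraspecial_cube hn hab))
      by_contra hg
      obtain ⟨j, hj, hjo⟩ := (Nat.dvd_prime_pow hp).1 (hn ▸ orderOf_dvd_natCard g)
      have hj2 : 2 ≤ j := by
        by_contra hh
        refine hg (orderOf_dvd_iff_pow_eq_one.1 ?_)
        rw [hjo]; exact (pow_dvd_pow 3 (show j ≤ 1 by omega)).trans (pow_one 3).dvd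
      have hj3 : j ≠ 3 := fun h => by
        haveI : IsCyclic Q := isCyclic_of_orderOf_eq_card g (by rw [hjo, h, hn])
        exact hnonab IsCyclic.isMulCommutative
      have hidx3 : (zpowers g).index = 3 := by
        have h := (zpowers g).card_mul_index
        rw [Nat.card_zpowers, hjo, hn, show j = 2 by omega] at h
        omega
      haveI : (zpowers g).Normal := normal_of_index_eq_minFac_card (by
        rw [hidx3, hn, Nat.pow_minFac (by norm_num), Nat.Prime.minFac_eq Nat.prime_three])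
      exact hmeta ⟨zpowers g, inferInstance, inferInstance,
        isCyclic_of_prime_card (p := 3) (by rw [← index_eq_card, hidx3])⟩
    · obtain ⟨k, hk, hnk, hnil⟩ := maxClass_shape h4 hn hlcs S hx0 hx0c hfix hv hgen
      exact Or.inr ⟨rfl, k, hk, hnk ▸ hn, hnil⟩

end CfsgLib.RankTwoIso
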